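import Groth.Agent.Castelnuovo.Split
import Groth.Agent.BlowUpLib.Glue
import Groth.Agent.BlowUpX.Projective
import Groth.Agent.FittX.Sheaf
import Groth.Agent.MdlInter.Inter
import Groth.Agent.RatSingReg.CechSplit
import Groth.Agent.SmoothMinimal.Basic

/-!
# An invertible ideal generated by two functions with vanishing `H¹` is the exceptional ideal of a blow-up
-/

noncomputable section

set_option linter.style.haveILetI false
set_option linter.unusedSectionVars false
set_option autoImplicit false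
set_option backward.isDefEq.respectTransparency false
set_option backward.isDefEq.respectTransparency.types false
set_option maxHeartbeats 1000000

universe u

open CategoryTheory CategoryTheory.Limits AlgebraicGeometry TopologicalSpace Opposite

namespace Groth.Agent.Castelnuovo

open Groth.Agent Groth.Agent.BlowUpLib
open scoped Groth.Agent.H23.PicMul

/-- The algebra behind: a function of order `n` along `(a, b)` lies in `(a, b) ^ n`. -/
theorem mem_pow_of_reg {A K : Type*} [CommRing A] [Field K] (κ : A →+* K) (hκ : Function.Injective κ) (a b : A)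
    (ha : κ a ≠ 0) (hb : κ b ≠ 0) (Ra Rb Rab : Subring K) (hab : Ra ≤ Rab) (hbb : Rb ≤ Rab)
    (hAa : κ.range ≤ Ra) (hAb : κ.range ≤ Rb) (hinter : ∀ x ∈ Ra, x ∈ Rb → x ∈ κ.range)
    (hs : κ b / κ a ∈ Ra) (ht : κ a / κ b ∈ Rb)
    (hsplit : ∀ n : ℕ, ∀ w ∈ Rab, ∃ u ∈ Ra, ∃ v ∈ Rb, w = u + (κ b / κ a) ^ ((n : ℤ) - 1) * v) :
    ∀ (n : ℕ) (r : A), κ r / κ a ^ n ∈ Ra → κ r / κ b ^ n ∈ Rb → r ∈ Ideal.span {a, b} ^ n := by
  intro n
  induction n with
  | zero => intro r _ _; rw [pow_zero, Ideal.one_eq_top]; trivial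
  | succ n ih =>
    intro r hra hrb
    let s := κ b / κ a
    have hs0 : s ≠ 0 := div_ne_zero hb ha
    obtain ⟨u, hu, v, hv, huv⟩ := hsplit n (s ^ n * (κ r / κ b ^ (n + 1)))
      (mul_mem (pow_mem (hab hs) n) (hbb hrb))
    -- the coefficient of `b`
    have hQb : u / s ^ n ∈ Rb := by
      have e : u / s ^ n = κ r / κ b ^ (n + 1) - (κ a / κ b) * v := by
        have h1 : u = s ^ n * (κ r / κ b ^ (n + 1)) - s ^ ((n : ℤ) - 1) * v := by rw [huv]; ring
        rw [h1, zpow_sub_one₀ hs0, zpow_natCast, show κ a / κ b = s⁻¹ from (inv_div _ _).symm]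
        field_simp
      rw [e]
      exact sub_mem hrb (mul_mem ht hv)
    have hpa : κ r / κ a ^ (n + 1) - s * u ∈ Ra := sub_mem hra (mul_mem hs hu)
    have hpb : (κ r / κ a ^ (n + 1) - s * u) / s ^ n ∈ Rb := by
      have e : (κ r / κ a ^ (n + 1) - s * u) / s ^ n = v := by
        have h1 : s * u = s * (s ^ n * (κ r / κ b ^ (n + 1))) - s * (s ^ ((n : ℤ) - 1) * v) := by rw [huv]; ring
        have h2 : κ r / κ a ^ (n + 1) = s * (s ^ n * (κ r / κ b ^ (n + 1))) := by
          simp only [s, div_pow]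
          field_simp
          ring
        rw [h1, h2, sub_sub_cancel, zpow_sub_one₀ hs0, zpow_natCast]
        field_simp
      rw [e]
      exact hv
    -- lift to `A`
    have hcoef : ∀ x : K, x ∈ Ra → x / s ^ n ∈ Rb → ∃ p : A, κ p = κ a ^ n * x ∧ p ∈ Ideal.span {a, b} ^ n := by
      intro x hxa hxb
      have e : κ a ^ n * x = κ b ^ n * (x / s ^ n) := by
        simp only [s, div_pow]
        field_simp
      obtain ⟨p, hp⟩ := hinter (κ a ^ n * x) (mul_mem (pow_mem (hAa ⟨a, rfl⟩) n) hxa)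
        (e ▸ mul_mem (pow_mem (hAb ⟨b, rfl⟩) n) hxb)
      refine ⟨p, hp, ih p ?_ ?_⟩
      · rw [hp, mul_div_cancel_left₀ _ (pow_ne_zero n ha)]
        exact hxa
      · rw [hp, e, mul_div_cancel_left₀ _ (pow_ne_zero n hb)]
        exact hxb
    obtain ⟨p, hp, hpP⟩ := hcoef _ hpa hpb
    obtain ⟨Q, hQ, hQP⟩ := hcoef u hu hQb
    have hr : r = p * a + Q * b := hκ (by
      rw [map_add, map_mul, map_mul, hp, hQ]
      simp only [s]
      field_simp
      ring)
    rw [hr, pow_succ]
    exact add_mem (Ideal.mul_mem_mul hpP (Ideal.subset_span (Set.mem_insert _ _)))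
      (Ideal.mul_mem_mul hQP (Ideal.subset_span (Set.mem_insert_of_mem _ rfl)))

/-- Restriction to the trace on a dense open is injective on sections of an ideal sheaf. -/
theorem injective_res_idealMod {Z : Scheme.{u}} [IsIntegral Z] (J : Z.IdealSheafData) (U : Z.Opens)
    [Nonempty ↥U.toScheme] (W : Z.Opens) :
    Function.Injective ((ClSub.idealMod J).presheaf.map (homOfLE (inf_le_right : U ⊓ W ≤ W)).op) := by
  intro k k' h
  refine OmegaLib.idealSect_injective J W ?_
  have h1 := congrArg (OmegaSh.idealSect J (U ⊓ W)) h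
  rw [OmegaLib.idealSect_map, OmegaLib.idealSect_map] at h1
  rcases isEmpty_or_nonempty ↥W.toScheme with hW | hW
  · refine TopCat.Presheaf.section_ext Z.sheaf W _ _ fun x hx => (hW.false ⟨x, hx⟩).elim
  · haveI := RatSingReg.nonempty_inf U W
    have h2 := congrArg (Z.germToFunctionField (U ⊓ W)) h1
    rw [RatSingReg.germ_res, RatSingReg.germ_res] at h2
    exact Scheme.germToFunctionField_injective Z W h2

/-- The regular functions on an open, inside the function field. -/
abbrev regRing {Z : Scheme.{u}} [IsIntegral Z] (U : Z.Opens) [Nonempty ↥U.toScheme] : Subring Z.functionField :=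
  (Z.germToFunctionField U).hom.range

theorem regRing_mono {Z : Scheme.{u}} [IsIntegral Z] {U V : Z.Opens} [Nonempty ↥U.toScheme] [Nonempty ↥V.toScheme]
    (h : V ≤ U) : regRing U ≤ regRing V := by
  rintro _ ⟨x, rfl⟩
  exact ⟨Z.presheaf.map (homOfLE h).op x, RatSingReg.germ_res h x⟩

/-- A cocycle of rational functions splits when `H¹` of an ideal with known generators vanishes. -/
theorem exists_split_ideal {Z : Scheme.{u}} [IsIntegral Z] [Z.IsSeparated] (J : Z.IdealSheafData)
    {U V : Z.Opens} (hU : IsAffineOpen U) (hV : IsAffineOpen V) [Nonempty ↥U.toScheme] [Nonempty ↥V.toScheme]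
    (hcov : U ⊔ V = ⊤) {gu : Γ(Z, U)} {gv : Γ(Z, V)} (hgu : J.ideal ⟨U, hU⟩ = Ideal.span {gu})
    (hgv : J.ideal ⟨V, hV⟩ = Ideal.span {gv}) (h1 : Subsingleton (Coh.HH Z (ClSub.idealMod J) 1))
    [Nonempty ↥(U ⊓ V).toScheme] (x : Z.functionField) (hx : x ∈ regRing (U ⊓ V)) :
    ∃ u ∈ regRing U, ∃ v ∈ regRing V,
      x * Z.germToFunctionField U gu = u * Z.germToFunctionField U gu + v * Z.germToFunctionField V gv := by
  obtain ⟨w₀, rfl⟩ := hx
  let W : Z.affineOpens := ⟨U ⊓ V, hU.inf hV⟩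
  have hmem : w₀ * Z.presheaf.map (homOfLE (inf_le_left : U ⊓ V ≤ U)).op gu ∈ J.ideal W := by
    refine Ideal.mul_mem_left _ _ ?_
    rw [← J.map_ideal (U := W) (V := ⟨U, hU⟩) (show W.1 ≤ U from inf_le_left), hgu]
    exact Ideal.mem_map_of_mem _ (Ideal.mem_span_singleton_self _)
  obtain ⟨k, hk⟩ := OmegaLib.exists_of_mem J W _ hmem
  obtain ⟨ka, kb, hkab⟩ := exists_split hU hV hcov (BlowUpX.isQCoh_idealMod J) (injective_res_idealMod J U) h1 k
  have hka := OmegaLib.idealSect_mem J ⟨U, hU⟩ ka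
  rw [hgu, Ideal.mem_span_singleton'] at hka
  obtain ⟨u, hu⟩ := hka
  have hkb := OmegaLib.idealSect_mem J ⟨V, hV⟩ kb
  rw [hgv, Ideal.mem_span_singleton'] at hkb
  obtain ⟨v, hv⟩ := hkb
  refine ⟨_, ⟨u, rfl⟩, _, ⟨v, rfl⟩, ?_⟩
  have h2 := congrArg (OmegaSh.idealSect J (U ⊓ V)) hkab
  rw [hk, map_add, OmegaLib.idealSect_map, OmegaLib.idealSect_map, ← hu, ← hv] at h2
  have h3 := congrArg (Z.germToFunctionField (U ⊓ V)) h2
  simp only [map_add, map_mul, RatSingReg.germ_res] at h3
  exact h3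

variable {A : Type u} [CommRing A] {Z : Scheme.{u}} [IsIntegral Z] (q : Z ⟶ Spec (CommRingCat.of A))

theorem res_strHom {U V : Z.Opens} (h : V ≤ U) (r : A) :
    Z.presheaf.map (homOfLE h).op (strHom q U r) = strHom q V r := by
  rw [strHom, strHom, ← Scheme.Hom.appLE_map q (le_top : U ≤ q ⁻¹ᵁ ⊤) (homOfLE h).op]
  rfl

instance nonempty_top : Nonempty ↥(⊤ : Z.Opens).toScheme := ⟨⟨genericPoint Z, trivial⟩⟩

/-- A function of the base, as a rational function. -/
def toFF : A →+* Z.functionField := (Z.germToFunctionField ⊤).hom.comp (strHom q ⊤)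

theorem germ_strHom (U : Z.Opens) [Nonempty ↥U.toScheme] (r : A) :
    Z.germToFunctionField U (strHom q U r) = toFF q r := by
  rw [← res_strHom q (le_top : U ≤ ⊤) r]
  exact RatSingReg.germ_res _ _

theorem range_toFF_le (U : Z.Opens) [Nonempty ↥U.toScheme] : (toFF q).range ≤ regRing U := by
  rintro _ ⟨r, rfl⟩
  exact ⟨strHom q U r, germ_strHom q U r⟩

theorem bijective_strHom (hq : Function.Bijective q.appTop) : Function.Bijective (strHom q (⊤ : Z.Opens)) := by
  have e : q.appLE ⊤ ⊤ le_top = q.appTop := (q.app_eq_appLE).symm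
  rw [strHom, e]
  exact hq.comp (ConcreteCategory.bijective_of_isIso (Scheme.ΓSpecIso (CommRingCat.of A)).inv)

theorem injective_toFF (hq : Function.Bijective q.appTop) : Function.Injective (toFF q) :=
  (Scheme.germToFunctionField_injective Z ⊤).comp (bijective_strHom q hq).1

theorem inter_le_range (hq : Function.Bijective q.appTop) {U V : Z.Opens} [Nonempty ↥U.toScheme]
    [Nonempty ↥V.toScheme] (hcov : U ⊔ V = ⊤) (x : Z.functionField) (hu : x ∈ regRing U) (hv : x ∈ regRing V) :
    x ∈ (toFF q).range := by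
  obtain ⟨su, rfl⟩ := hu
  obtain ⟨sv, hsv⟩ := hv
  let sec : ∀ i : ULift.{u} Bool, Γ(Z, if i.down then U else V) := fun i =>
    match i with
    | ⟨true⟩ => su
    | ⟨false⟩ => sv
  haveI : Nonempty ↥(U ⊓ V).toScheme := RatSingReg.nonempty_inf U V
  haveI : Nonempty ↥(V ⊓ U).toScheme := RatSingReg.nonempty_inf V U
  obtain ⟨g, hg, -⟩ := TopCat.Sheaf.existsUnique_gluing' Z.sheaf
    (fun i : ULift.{u} Bool => if i.down then U else V) ⊤ (fun i => homOfLE le_top) (fun x _ => by
      rcases (Opens.mem_sup.1 (hcov.ge (trivial : x ∈ (⊤ : Z.Opens)))) with h | h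
      · exact Opens.mem_iSup.2 ⟨⟨true⟩, h⟩
      · exact Opens.mem_iSup.2 ⟨⟨false⟩, h⟩) sec (fun i j => by
      rcases i with ⟨_ | _⟩ <;> rcases j with ⟨_ | _⟩
      · rfl
      · exact Scheme.germToFunctionField_injective Z (V ⊓ U)
          ((RatSingReg.germ_res inf_le_left sv).trans (hsv.trans (RatSingReg.germ_res inf_le_right su).symm))
      · exact Scheme.germToFunctionField_injective Z (U ⊓ V)
          ((RatSingReg.germ_res inf_le_left su).trans (hsv.symm.trans (RatSingReg.germ_res inf_le_right sv).symm))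
      · rfl)
  obtain ⟨r, rfl⟩ := (bijective_strHom q hq).2 g
  refine ⟨r, ?_⟩
  exact (RatSingReg.germ_res (le_top : U ≤ ⊤) _).symm.trans (congrArg (Z.germToFunctionField U) (hg ⟨true⟩))

/-- The data of an invertible ideal generated by two functions, with its lift to the blow-up. -/
structure TwoGen (q : Z ⟶ Spec (CommRingCat.of A)) (I : Z.IdealSheafData) (a b : A) where
  φ : Z ⟶ localBlowUp (Ideal.span {a, b})
  hφ : φ ≫ toBase (Ideal.span {a, b}) = q
  cartier : BlowUp.IsEffCartierIdeal I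
  hgen : ∀ W : Z.affineOpens, I.ideal W = (Ideal.span {a, b}).map (strHom q W.1)
  affine : IsAffineHom φ

variable {q} {I : Z.IdealSheafData} {a b : A}

/-- The first generator, in the ideal. -/
abbrev genA (a b : A) : (Ideal.span {a, b} : Ideal A) := ⟨a, Ideal.subset_span (Set.mem_insert _ _)⟩
/-- The second generator, in the ideal. -/
abbrev genB (a b : A) : (Ideal.span {a, b} : Ideal A) := ⟨b, Ideal.subset_span (Set.mem_insert_of_mem _ rfl)⟩

/-- The two charts cover the blow-up. -/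
theorem chart_cover (a b : A) : (chart (Ideal.span {a, b}) (genA a b)).opensRange ⊔
    (chart (Ideal.span {a, b}) (genB a b)).opensRange = ⊤ := by
  rw [opensRange_chart, opensRange_chart]
  refine top_le_iff.1 fun x _ => ?_
  by_contra hx
  rw [Opens.mem_sup, not_or, Proj.mem_basicOpen, Proj.mem_basicOpen, not_not, not_not] at hx
  refine x.not_irrelevant_le fun y hy => ?_
  refine (Ideal.span_le.2 ?_) (irrelevant_le_span_gen (Ideal.span {a, b}) hy)
  rintro _ ⟨⟨c, hc⟩, rfl⟩
  obtain ⟨r, s, hrs⟩ := Ideal.mem_span_pair.1 hc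
  have e : gen (Ideal.span {a, b}) ⟨c, hc⟩ = algebraMap A _ r * gen _ (genA a b) + algebraMap A _ s * gen _ (genB a b) := by
    refine Subtype.ext ?_
    show Polynomial.monomial 1 c = Polynomial.C r * Polynomial.monomial 1 a + Polynomial.C s * Polynomial.monomial 1 b
    rw [Polynomial.C_mul_monomial, Polynomial.C_mul_monomial, ← map_add, hrs]
  rw [e]
  exact add_mem (Ideal.mul_mem_left _ _ hx.1) (Ideal.mul_mem_left _ _ hx.2)

namespace TwoGen

variable (T : TwoGen q I a b)
include T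

theorem comap_eq : (centre (Ideal.span {a, b})).comap q = I :=
  Scheme.IdealSheafData.ext (funext fun W => (ideal_comap_centre _ q W).trans (T.hgen W).symm)

/-- The preimage of the chart of `c`. -/
def U (c : (Ideal.span {a, b} : Ideal A)) : Z.Opens := T.φ ⁻¹ᵁ (chart _ c).opensRange

theorem isAffineOpen_U (c : (Ideal.span {a, b} : Ideal A)) : IsAffineOpen (T.U c) := by
  haveI := T.affine
  exact (isAffineOpen_opensRange (chart _ c)).preimage T.φ

theorem cover : T.U (genA a b) ⊔ T.U (genB a b) = ⊤ := by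
  refine top_le_iff.1 fun z _ => ?_
  exact ((chart_cover a b).ge (trivial : T.φ z ∈ (⊤ : (localBlowUp (Ideal.span {a, b})).Opens)) : _)

/-- The ring map of a chart. -/
theorem exists_chartMap (c : (Ideal.span {a, b} : Ideal A)) :
    ∃ ψ : BlowUp.affineAlgebra A (Ideal.span {a, b}) (c : A) →+* Γ(Z, T.U c),
      ψ.comp (algebraMap A _) = strHom q (T.U c) ∧
      Spec.map (CommRingCat.ofHom ψ) ≫ chart _ c = (T.isAffineOpen_U c).fromSpec ≫ T.φ := by
  have hle : Set.range ((T.isAffineOpen_U c).fromSpec ≫ T.φ) ⊆ Set.range (chart _ c) := by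
    rintro _ ⟨p, rfl⟩
    exact ((T.isAffineOpen_U c).range_fromSpec.le (Set.mem_range_self p) : _)
  obtain ⟨ψ, hψ⟩ := Spec.map_surjective (IsOpenImmersion.lift (chart _ c) ((T.isAffineOpen_U c).fromSpec ≫ T.φ) hle)
  have hψ2 : Spec.map ψ ≫ chart _ c = (T.isAffineOpen_U c).fromSpec ≫ T.φ := by rw [hψ, IsOpenImmersion.lift_fac]
  refine ⟨ψ.hom, ?_, by rw [← hψ2]; rfl⟩
  have : Spec.map ψ ≫ chart _ c ≫ toBase _ = Spec.map (CommRingCat.ofHom (strHom q (T.U c))) := by
    rw [reassoc_of% hψ2, T.hφ]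
    exact (SpecMap_strHom q ⟨T.U c, T.isAffineOpen_U c⟩).symm
  rw [chart_toBase, ← Spec.map_comp] at this
  exact congrArg CommRingCat.Hom.hom (Spec.map_injective this)

theorem ideal_U (c : (Ideal.span {a, b} : Ideal A)) :
    I.ideal ⟨T.U c, T.isAffineOpen_U c⟩ = Ideal.span {strHom q (T.U c) c} := by
  refine le_antisymm ?_ ?_
  · obtain ⟨ψ, hψ, -⟩ := T.exists_chartMap c
    rw [T.hgen, Ideal.map_le_iff_le_comap]
    intro x hx
    rw [Ideal.mem_comap, Ideal.mem_span_singleton']
    refine ⟨ψ (frac _ ⟨x, hx⟩ c), ?_⟩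
    show _ * strHom q (T.U c) c = strHom q (T.U c) x
    rw [← hψ, RingHom.comp_apply, RingHom.comp_apply, ← map_mul, frac_mul]
  · rw [Ideal.span_singleton_le_iff_mem, T.hgen]
    exact Ideal.mem_map_of_mem _ c.2

theorem toFF_ne_zero (c : (Ideal.span {a, b} : Ideal A))
    (hne : Nonempty ↥(T.U c).toScheme) : toFF q (c : A) ≠ 0 := by
  intro h
  rw [← germ_strHom q (T.U c)] at h
  have h0 := (Scheme.germToFunctionField_injective Z (T.U c)) (h.trans (map_zero _).symm)
  exact zero_notMem_nonZeroDivisors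
    (h0 ▸ ModPairLib.generator_mem_nonZeroDivisors T.cartier (T.ideal_U c))

theorem frac_mem (c : (Ideal.span {a, b} : Ideal A))
    [hne : Nonempty ↥(T.U c).toScheme] {x : A} (hx : x ∈ Ideal.span {a, b}) :
    toFF q x / toFF q (c : A) ∈ regRing (T.U c) := by
  obtain ⟨ψ, hψ, -⟩ := T.exists_chartMap c
  refine ⟨ψ (frac _ ⟨x, hx⟩ c), ?_⟩
  rw [eq_div_iff (T.toFF_ne_zero c hne), ← germ_strHom q (T.U c) c, ← germ_strHom q (T.U c) x, ← map_mul]
  congr 1
  rw [← hψ, RingHom.comp_apply, RingHom.comp_apply, ← map_mul, frac_mul]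

end TwoGen

end Groth.Agent.Castelnuovo
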