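import Groth.Agent.Castelnuovo.Chart

/-!
# The comparison with the blow-up is an isomorphism
-/

noncomputable section

set_option linter.style.haveILetI false
set_option linter.unusedSectionVars false
set_option autoImplicit false
set_option backward.isDefEq.respectTransparency false
set_option backward.isDefEq.respectTransparency.types false
set_option maxHeartbeats 1000000

universe u

open CategoryTheory CategoryTheory.Limits AlgebraicGeometry TopologicalSpace Opposite

namespace Groth.Agent.Castelnuovo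

open Groth.Agent Groth.Agent.BlowUpLib
open scoped Groth.Agent.H23.PicMul

/-- Classes of products with an invertible ideal. -/
theorem cl_idealMod_mul' {X : Scheme.{u}} (I J : X.IdealSheafData) (hI : BlowUp.IsEffCartierIdeal I) :
    PicF.cl (ClSub.idealMod (I * J)) = PicF.cl (ClSub.idealMod I) * PicF.cl (ClSub.idealMod J) := by
  obtain ⟨e⟩ := DepthTwist.nonempty_idealMod_mul_iso I J ((S8914.result I).2 hI)
  rw [← H23.PicMul.cl_tensor]
  exact (H23.PicMul.cl_eq_iff.2 ⟨e⟩).symm

namespace TwoGen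

variable {A : Type u} [CommRing A] {Z : Scheme.{u}} [IsIntegral Z] {q : Z ⟶ Spec (CommRingCat.of A)}
  {I : Z.IdealSheafData} {a b : A} (T : TwoGen q I a b)

include T

/-- The overlap of two charts inside one of them. -/
theorem overlap (c d : (Ideal.span {a, b} : Ideal A)) [Nonempty ↥(T.U c).toScheme] [Nonempty ↥(T.U d).toScheme]
    (ψ : BlowUp.affineAlgebra A (Ideal.span {a, b}) (d : A) →+* Γ(Z, T.U d))
    (hψ : ψ.comp (algebraMap A _) = strHom q (T.U d))
    (hψφ : Spec.map (CommRingCat.ofHom ψ) ≫ chart _ d = (T.isAffineOpen_U d).fromSpec ≫ T.φ) :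
    Z.germToFunctionField (T.U d) (ψ (frac _ c d)) = toFF q (c : A) / toFF q (d : A) ∧
      T.U d ⊓ T.U c = Z.basicOpen (ψ (frac _ c d)) := by
  have hd := T.isAffineOpen_U d
  have hgd : Z.germToFunctionField (T.U d) (ψ (frac _ c d)) = toFF q (c : A) / toFF q (d : A) := by
    rw [eq_div_iff (T.toFF_ne_zero d inferInstance), ← germ_strHom q (T.U d) (d : A), ← germ_strHom q (T.U d) (c : A),
      ← map_mul]
    congr 1
    rw [← hψ, RingHom.comp_apply, RingHom.comp_apply, ← map_mul, frac_mul]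
  refine ⟨hgd, le_antisymm ?_ ?_⟩
  · obtain ⟨ψc, hψc, -⟩ := T.exists_chartMap c
    haveI : Nonempty ↥(T.U d ⊓ T.U c).toScheme := RatSingReg.nonempty_inf (T.U d) (T.U c)
    have hgc : Z.germToFunctionField (T.U c) (ψc (frac _ d c)) = toFF q (d : A) / toFF q (c : A) := by
      rw [eq_div_iff (T.toFF_ne_zero c inferInstance), ← germ_strHom q (T.U c) (d : A),
        ← germ_strHom q (T.U c) (c : A), ← map_mul]
      congr 1
      rw [← hψc, RingHom.comp_apply, RingHom.comp_apply, ← map_mul, frac_mul]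
    have h1 : Z.presheaf.map (homOfLE (inf_le_left : T.U d ⊓ T.U c ≤ T.U d)).op (ψ (frac _ c d)) *
        Z.presheaf.map (homOfLE (inf_le_right : T.U d ⊓ T.U c ≤ T.U c)).op (ψc (frac _ d c)) = 1 := by
      refine Scheme.germToFunctionField_injective Z (T.U d ⊓ T.U c) ?_
      rw [map_mul, RatSingReg.germ_res, RatSingReg.germ_res, hgd, hgc, map_one]
      exact div_mul_div_cancel₀ (T.toFF_ne_zero d inferInstance) |>.trans
        (div_self (T.toFF_ne_zero c inferInstance))
    have h2 := Scheme.basicOpen_of_isUnit Z (IsUnit.of_mul_eq_one _ h1)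
    rw [Scheme.basicOpen_res] at h2
    exact (le_of_eq h2.symm).trans inf_le_right
  · intro z hz
    have hzd : z ∈ T.U d := Z.basicOpen_le _ hz
    refine ⟨hzd, ?_⟩
    obtain ⟨p, rfl⟩ : z ∈ Set.range hd.fromSpec := hd.range_fromSpec.ge hzd
    have hp : p ∈ PrimeSpectrum.basicOpen (ψ (frac _ c d)) := by
      have : p ∈ hd.fromSpec ⁻¹ᵁ Z.basicOpen (ψ (frac _ c d)) := hz
      rwa [hd.fromSpec_preimage_basicOpen] at this
    show T.φ (hd.fromSpec p) ∈ (chart _ c).opensRange
    rw [← Scheme.Hom.comp_apply, ← hψφ, Scheme.Hom.comp_apply]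
    exact chart_overlap (Ideal.span {a, b}) c d hp

/-- The closed subscheme `a = 0` of the second chart. -/
theorem exists_colon [Nonempty ↥(T.U (genA a b)).toScheme] [Nonempty ↥(T.U (genB a b)).toScheme] :
    ∃ (H : Z.IdealSheafData) (tb : Γ(Z, T.U (genB a b))),
      H.ideal ⟨T.U (genA a b), T.isAffineOpen_U _⟩ = ⊤ ∧
      H.ideal ⟨T.U (genB a b), T.isAffineOpen_U _⟩ = Ideal.span {tb} ∧
      Z.germToFunctionField (T.U (genB a b)) tb = toFF q a / toFF q b ∧
      PicF.cl (ClSub.idealMod H) * PicF.cl (ClSub.idealMod I) = 1 := by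
  let Ua := T.U (genA a b)
  let Ub := T.U (genB a b)
  have hUb := T.isAffineOpen_U (genB a b)
  obtain ⟨ψ, hψ, hψφ⟩ := T.exists_chartMap (genB a b)
  let x := frac (Ideal.span {a, b}) (genA a b) (genB a b)
  let tb : Γ(Z, Ub) := ψ x
  have htb : tb * strHom q Ub b = strHom q Ub a := by
    show ψ x * strHom q Ub ((genB a b : (Ideal.span {a, b} : Ideal A)) : A) = _
    rw [← hψ, RingHom.comp_apply, RingHom.comp_apply, ← map_mul, frac_mul]
  have hgtb : Z.germToFunctionField Ub tb = toFF q a / toFF q b := by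
    rw [eq_div_iff (T.toFF_ne_zero (genB a b) inferInstance), ← germ_strHom q Ub b, ← map_mul, htb, germ_strHom]
  -- where `a/b` is invertible we are in the first chart
  have hover : ∀ z, z ∈ Ub → z ∉ Ua → z ∈ Ub ∧ z ∉ Z.basicOpen tb := fun z hzb hza => by
    refine ⟨hzb, fun hz => hza ?_⟩
    obtain ⟨p, rfl⟩ : z ∈ Set.range hUb.fromSpec := hUb.range_fromSpec.ge hzb
    have hp : p ∈ PrimeSpectrum.basicOpen tb := by
      have : p ∈ hUb.fromSpec ⁻¹ᵁ Z.basicOpen tb := hz
      rwa [hUb.fromSpec_preimage_basicOpen] at this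
    show T.φ (hUb.fromSpec p) ∈ (chart _ (genA a b)).opensRange
    rw [← Scheme.Hom.comp_apply, ← hψφ, Scheme.Hom.comp_apply]
    exact chart_overlap (Ideal.span {a, b}) (genA a b) (genB a b) hp
  have hzero : ∀ z, z ∈ Ub → z ∈ Ua → z ∈ Z.basicOpen tb := fun z hzb hza => by
    obtain ⟨ψa, hψa, -⟩ := T.exists_chartMap (genA a b)
    let ta : Γ(Z, Ua) := ψa (frac (Ideal.span {a, b}) (genB a b) (genA a b))
    have hta : ta * strHom q Ua a = strHom q Ua b := by
      show ψa _ * strHom q Ua ((genA a b : (Ideal.span {a, b} : Ideal A)) : A) = _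
      rw [← hψa, RingHom.comp_apply, RingHom.comp_apply, ← map_mul, frac_mul]
    have hgta : Z.germToFunctionField Ua ta = toFF q b / toFF q a := by
      rw [eq_div_iff (T.toFF_ne_zero (genA a b) inferInstance), ← germ_strHom q Ua a, ← map_mul, hta, germ_strHom]
    haveI : Nonempty ↥(Ub ⊓ Ua).toScheme := ⟨⟨z, hzb, hza⟩⟩
    have h1 : Z.presheaf.map (homOfLE (inf_le_left : Ub ⊓ Ua ≤ Ub)).op tb *
        Z.presheaf.map (homOfLE (inf_le_right : Ub ⊓ Ua ≤ Ua)).op ta = 1 := by
      refine Scheme.germToFunctionField_injective Z (Ub ⊓ Ua) ?_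
      rw [map_mul, RatSingReg.germ_res, RatSingReg.germ_res, hgtb, hgta, map_one]
      exact div_mul_div_cancel₀ (T.toFF_ne_zero (genB a b) inferInstance) |>.trans
        (div_self (T.toFF_ne_zero (genA a b) inferInstance))
    have h2 : Z.basicOpen (Z.presheaf.map (homOfLE (inf_le_left : Ub ⊓ Ua ≤ Ub)).op tb) = Ub ⊓ Ua :=
      Scheme.basicOpen_of_isUnit _ (IsUnit.of_mul_eq_one _ h1)
    rw [Scheme.basicOpen_res] at h2
    exact ((le_of_eq h2.symm).trans inf_le_right) ⟨hzb, hza⟩
  -- the closed subscheme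
  let π : CommRingCat.of Γ(Z, Ub) ⟶ CommRingCat.of (Γ(Z, Ub) ⧸ Ideal.span {tb}) :=
    CommRingCat.ofHom (Ideal.Quotient.mk (Ideal.span {tb}))
  haveI : IsClosedImmersion (Spec.map π) := IsClosedImmersion.spec_of_surjective _ Ideal.Quotient.mk_surjective
  let i := Spec.map π ≫ hUb.fromSpec
  have hrange : Set.range i = (Ua : Set Z)ᶜ := by
    ext z
    constructor
    · rintro ⟨p, rfl⟩ hza
      have h1 := hzero (i p) (hUb.range_fromSpec.le (Set.mem_range_self _)) hza
      have h2 : Spec.map π p ∈ hUb.fromSpec ⁻¹ᵁ Z.basicOpen tb := h1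
      rw [hUb.fromSpec_preimage_basicOpen] at h2
      refine h2 ?_
      show tb ∈ (p.asIdeal).comap π.hom
      rw [Ideal.mem_comap]
      rw [show π.hom tb = 0 from Ideal.Quotient.eq_zero_iff_mem.2 (Ideal.mem_span_singleton_self _)]
      exact zero_mem _
    · intro hza
      have hzb : z ∈ Ub := ((Opens.mem_sup.1 (T.cover.ge (trivial : z ∈ (⊤ : Z.Opens)))).resolve_left hza)
      obtain ⟨-, hz⟩ := hover z hzb hza
      obtain ⟨p, rfl⟩ : z ∈ Set.range hUb.fromSpec := hUb.range_fromSpec.ge hzb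
      have hp : p ∉ hUb.fromSpec ⁻¹ᵁ Z.basicOpen tb := hz
      rw [hUb.fromSpec_preimage_basicOpen, PrimeSpectrum.mem_basicOpen, not_not] at hp
      obtain ⟨p', hp'⟩ : p ∈ Set.range (Spec.map π) := by
        show p ∈ Set.range (PrimeSpectrum.comap π.hom)
        rw [range_comap_of_surjective _ π.hom Ideal.Quotient.mk_surjective, PrimeSpectrum.mem_zeroLocus]
        rw [CommRingCat.hom_ofHom, Ideal.mk_ker]
        exact (Ideal.span_singleton_le_iff_mem _).2 hp
      exact ⟨p', by rw [show i p' = hUb.fromSpec (Spec.map π p') from Scheme.Hom.comp_apply _ _ _, hp']⟩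
  haveI : IsClosedImmersion i := by
    haveI : IsPreimmersion i := inferInstanceAs (IsPreimmersion (Spec.map π ≫ hUb.fromSpec))
    refine IsClosedImmersion.of_isPreimmersion _ ?_
    rw [hrange]
    exact Ua.isOpen.isClosed_compl
  let H := i.ker
  have hHa : H.ideal ⟨Ua, T.isAffineOpen_U _⟩ = ⊤ := by
    rw [FComplLib.ideal_ker]
    haveI : Subsingleton Γ(Spec (CommRingCat.of (Γ(Z, Ub) ⧸ Ideal.span {tb})), i ⁻¹ᵁ Ua) := ?_
    · exact RingHom.ker_eq_top_of_subsingleton _
    have : i ⁻¹ᵁ Ua = ⊥ := Opens.ext (Set.eq_empty_iff_forall_notMem.2 fun p hp =>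
      (hrange.le ⟨p, rfl⟩) hp)
    rw [this]
    infer_instance
  have hHb : H.ideal ⟨Ub, hUb⟩ = Ideal.span {tb} := by
    have htop : (⊤ : (Spec (CommRingCat.of (Γ(Z, Ub) ⧸ Ideal.span {tb}))).Opens) ≤ i ⁻¹ᵁ Ub :=
      fun p _ => hUb.range_fromSpec.le (Set.mem_range_self (Spec.map π p))
    have hkey : i.appLE Ub ⊤ htop ≫ (Scheme.ΓSpecIso (CommRingCat.of (Γ(Z, Ub) ⧸ Ideal.span {tb}))).hom = π := by
      refine Spec.map_injective ((cancel_mono hUb.fromSpec).1 ?_)
      rw [Spec.map_comp, Category.assoc, IsAffineOpen.SpecMap_appLE_fromSpec i hUb (isAffineOpen_top _) htop,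
        IsAffineOpen.fromSpec_top, Scheme.isoSpec_Spec_inv, ← Spec.map_comp_assoc, Iso.inv_hom_id, Spec.map_id,
        Category.id_comp]
    rw [FComplLib.ideal_ker]
    ext r
    rw [RingHom.mem_ker, ← Ideal.Quotient.eq_zero_iff_mem]
    have hr : π r = (Scheme.ΓSpecIso _).hom (i.appLE Ub ⊤ htop r) := by rw [← hkey]; rfl
    show i.app Ub r = 0 ↔ π r = 0
    rw [hr]
    have happ : i.appLE Ub ⊤ htop r =
        (Spec (CommRingCat.of (Γ(Z, Ub) ⧸ Ideal.span {tb}))).presheaf.map (homOfLE htop).op (i.app Ub r) := rfl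
    constructor
    · intro h
      rw [happ, h, map_zero, map_zero]
    · intro h
      have h' := (ConcreteCategory.bijective_of_isIso (Scheme.ΓSpecIso (CommRingCat.of (Γ(Z, Ub) ⧸ Ideal.span {tb}))).hom).1
        (h.trans (map_zero _).symm)
      have e : i ⁻¹ᵁ Ub = ⊤ := top_le_iff.1 htop
      have hinj : Function.Injective
          ((Spec (CommRingCat.of (Γ(Z, Ub) ⧸ Ideal.span {tb}))).presheaf.map (homOfLE htop).op) := by
        haveI : IsIso (homOfLE htop) := ⟨homOfLE le_top, rfl, rfl⟩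
        exact (ConcreteCategory.bijective_of_isIso _).1
      exact hinj ((happ.symm.trans h').trans (map_zero _).symm)
  refine ⟨H, tb, hHa, hHb, hgtb, ?_⟩
  -- `H * I` is principal
  let Pr : Z.IdealSheafData := (centre (Ideal.span {a})).comap q
  have hPr : ∀ W : Z.affineOpens, Pr.ideal W = Ideal.span {strHom q W.1 a} := fun W => by
    rw [ideal_comap_centre, Ideal.map_span, Set.image_singleton]
  have hprod : I * H = Pr := by
    refine FittX.eq_of_cover fun z => ?_
    rcases (Opens.mem_sup.1 (T.cover.ge (trivial : z ∈ (⊤ : Z.Opens)))) with h | h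
    · refine ⟨⟨Ua, T.isAffineOpen_U _⟩, h, ?_⟩
      rw [Scheme.IdealSheafData.ideal_mul, Pi.mul_apply, hHa, T.ideal_U, hPr, Ideal.mul_top]
    · refine ⟨⟨Ub, hUb⟩, h, ?_⟩
      rw [Scheme.IdealSheafData.ideal_mul, Pi.mul_apply, hHb, T.ideal_U, hPr, Ideal.span_singleton_mul_span_singleton]
      show Ideal.span {strHom q Ub b * tb} = _
      rw [mul_comm, htb]
  have ha0 : strHom q (⊤ : Z.Opens) a ≠ 0 := fun h =>
    T.toFF_ne_zero (genA a b) inferInstance (by
      show Z.germToFunctionField ⊤ (strHom q ⊤ a) = 0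
      rw [h, map_zero])
  have hPrC : BlowUp.IsEffCartierIdeal Pr := fun z => by
    obtain ⟨W, hW, hzW, -⟩ := exists_isAffineOpen_mem_and_subset (x := z) (U := ⊤) trivial
    haveI : Nonempty ↥W.toScheme := ⟨⟨z, hzW⟩⟩
    refine ⟨⟨W, hW⟩, hzW, strHom q W a, mem_nonZeroDivisors_iff_ne_zero.2 fun h => ?_, hPr _⟩
    exact T.toFF_ne_zero (genA a b) inferInstance
      ((germ_strHom q W a).symm.trans ((congrArg (Z.germToFunctionField W) h).trans (map_zero _)))
  rw [mul_comm, ← cl_idealMod_mul' I H T.cartier, hprod, H23.PicMul.one_def]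
  exact H23.PicMul.cl_eq_iff.2 (SmoothMinimal.triv_idealMod Pr hPrC (strHom q ⊤ a) fun W => by
    rw [hPr, res_strHom])

theorem exists_split_pow (n : ℕ) [Nonempty ↥(T.U (genA a b)).toScheme] [Nonempty ↥(T.U (genB a b)).toScheme]
    (hv : ∀ m : ℕ, Subsingleton (Coh.HH Z (ClSub.idealMod (I ^ m)) 1))
    (M : Z.Modules) (hMI : PicF.cl M * PicF.cl (ClSub.idealMod I) = 1) (hM : Subsingleton (Coh.HH Z M 1))
    [Nonempty ↥(T.U (genA a b) ⊓ T.U (genB a b)).toScheme]
    (w : Z.functionField) (hw : w ∈ regRing (T.U (genA a b) ⊓ T.U (genB a b))) :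
    ∃ u ∈ regRing (T.U (genA a b)), ∃ v ∈ regRing (T.U (genB a b)),
      w = u + (toFF q b / toFF q a) ^ ((n : ℤ) - 1) * v := by
  haveI : Z.IsSeparated := Scheme.IsSeparated.mk (by
    haveI : IsSeparated (T.φ ≫ toBase (Ideal.span {a, b})) := by
      haveI := T.affine
      haveI := isProper_toBase (Ideal.span {a, b}) (Submodule.fg_span (Set.toFinite _))
      infer_instance
    rw [← terminal.comp_from q, ← T.hφ]
    infer_instance)
  have ha := T.toFF_ne_zero (genA a b) inferInstance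
  have hb := T.toFF_ne_zero (genB a b) inferInstance
  match n with
  | 0 =>
    obtain ⟨H, tb, hHa, hHb, hgtb, hcl⟩ := T.exists_colon
    obtain ⟨e⟩ := H23.PicMul.cl_eq_iff.1 (show PicF.cl M = PicF.cl (ClSub.idealMod H) by
      calc PicF.cl M = PicF.cl M * (PicF.cl (ClSub.idealMod H) * PicF.cl (ClSub.idealMod I)) := by rw [hcl, mul_one]
        _ = PicF.cl (ClSub.idealMod H) * (PicF.cl M * PicF.cl (ClSub.idealMod I)) := by rw [mul_left_comm]
        _ = PicF.cl (ClSub.idealMod H) := by rw [hMI, mul_one])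
    obtain ⟨u, hu, v, hv', huv⟩ := exists_split_ideal H (T.isAffineOpen_U (genA a b)) (T.isAffineOpen_U (genB a b))
      T.cover (gu := 1) (hHa.trans Ideal.span_singleton_one.symm) hHb (QCoh.subsingleton_HH_of_iso e 1 hM) w hw
    refine ⟨u, hu, v, hv', ?_⟩
    rw [map_one, mul_one, mul_one, hgtb] at huv
    rw [huv, Nat.cast_zero, zero_sub, zpow_neg_one, inv_div, mul_comm v]
  | m + 1 =>
    obtain ⟨u, hu, v, hv', huv⟩ := exists_split_ideal (I ^ m) (T.isAffineOpen_U (genA a b)) (T.isAffineOpen_U (genB a b))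
      T.cover (gu := strHom q _ a ^ m) (gv := strHom q _ b ^ m)
      (by rw [Scheme.IdealSheafData.ideal_pow, Pi.pow_apply, T.ideal_U, Ideal.span_singleton_pow])
      (by rw [Scheme.IdealSheafData.ideal_pow, Pi.pow_apply, T.ideal_U, Ideal.span_singleton_pow])
      (hv m) w hw
    refine ⟨u, hu, v, hv', ?_⟩
    rw [map_pow, map_pow, germ_strHom, germ_strHom] at huv
    rw [show ((m + 1 : ℕ) : ℤ) - 1 = (m : ℕ) by push_cast; ring, zpow_natCast, div_pow]
    refine mul_right_cancel₀ (pow_ne_zero m ha) (huv.trans ?_)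
    rw [add_mul]
    congr 1
    rw [mul_right_comm, div_mul_cancel₀ _ (pow_ne_zero m ha), mul_comm]

/-- Functions with order `n` along both charts lie in `(a, b) ^ n`. -/
theorem mem_pow (hq : Function.Bijective q.appTop) [Nonempty ↥(T.U (genA a b)).toScheme]
    [Nonempty ↥(T.U (genB a b)).toScheme]
    (hv : ∀ m : ℕ, Subsingleton (Coh.HH Z (ClSub.idealMod (I ^ m)) 1))
    (M : Z.Modules) (hMI : PicF.cl M * PicF.cl (ClSub.idealMod I) = 1) (hM : Subsingleton (Coh.HH Z M 1))
    (n : ℕ) (r : A) (hra : toFF q r / toFF q a ^ n ∈ regRing (T.U (genA a b)))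
    (hrb : toFF q r / toFF q b ^ n ∈ regRing (T.U (genB a b))) : r ∈ Ideal.span {a, b} ^ n := by
  haveI := RatSingReg.nonempty_inf (T.U (genA a b)) (T.U (genB a b))
  exact mem_pow_of_reg (toFF q) (injective_toFF q hq) a b (T.toFF_ne_zero (genA a b) inferInstance)
    (T.toFF_ne_zero (genB a b) inferInstance) _ _ (regRing (T.U (genA a b) ⊓ T.U (genB a b)))
    (regRing_mono inf_le_left) (regRing_mono inf_le_right) (range_toFF_le q _) (range_toFF_le q _)
    (inter_le_range q hq T.cover) (T.frac_mem (genA a b) (Ideal.subset_span (Set.mem_insert_of_mem _ rfl)))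
    (T.frac_mem (genB a b) (Ideal.subset_span (Set.mem_insert _ _)))
    (fun m => T.exists_split_pow m hv M hMI hM) n r hra hrb

/-- The ring map of a chart is bijective. -/
theorem bijective_chartMap (hq : Function.Bijective q.appTop) (c d : (Ideal.span {a, b} : Ideal A))
    [Nonempty ↥(T.U c).toScheme] [Nonempty ↥(T.U d).toScheme] (hcov : T.U c ⊔ T.U d = ⊤)
    (hmem : ∀ (n : ℕ) (r : A), toFF q r / toFF q (c : A) ^ n ∈ regRing (T.U c) →
      toFF q r / toFF q (d : A) ^ n ∈ regRing (T.U d) → r ∈ Ideal.span {a, b} ^ n)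
    (ψ : BlowUp.affineAlgebra A (Ideal.span {a, b}) (c : A) →+* Γ(Z, T.U c))
    (hψ : ψ.comp (algebraMap A _) = strHom q (T.U c)) : Function.Bijective ψ := by
  have hc0 := T.toFF_ne_zero c inferInstance
  have hd0 := T.toFF_ne_zero d inferInstance
  have hψr : ∀ r : A, Z.germToFunctionField (T.U c) (ψ (algebraMap A _ r)) = toFF q r := fun r => by
    rw [show ψ (algebraMap A _ r) = strHom q (T.U c) r from RingHom.congr_fun hψ r, germ_strHom]
  constructor
  · rw [injective_iff_map_eq_zero]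
    intro x hx
    obtain ⟨⟨r, ⟨_, n, rfl⟩⟩, hr⟩ := IsLocalization.surj (Submonoid.powers (c : A)) (x : Localization.Away (c : A))
    have hr' : x * algebraMap A _ ((c : A) ^ n) = algebraMap A _ r := Subtype.ext hr
    have h1 := congrArg (fun y => Z.germToFunctionField (T.U c) (ψ y)) hr'
    simp only [map_mul, hx, zero_mul, map_zero, hψr] at h1
    have hr0 : r = 0 := injective_toFF q hq (h1.symm.trans (map_zero (toFF q)).symm)
    refine Subtype.ext ?_
    rw [ZeroMemClass.coe_zero]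
    have h2 : (x : Localization.Away (c : A)) * algebraMap A _ ((c : A) ^ n) = 0 := by
      refine hr.trans ?_
      rw [hr0, map_zero]
    exact (IsLocalization.map_units (Localization.Away (c : A))
      (⟨_, n, rfl⟩ : Submonoid.powers (c : A))).mul_left_eq_zero.1 h2
  · intro f
    obtain ⟨ψd, hψd, hψdφ⟩ := T.exists_chartMap d
    obtain ⟨hgd, hov⟩ := T.overlap c d ψd hψd hψdφ
    haveI := RatSingReg.nonempty_inf (T.U d) (T.U c)
    haveI : Nonempty ↥(Z.basicOpen (ψd (frac _ c d))).toScheme := hov ▸ inferInstance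
    have hle : Z.basicOpen (ψd (frac _ c d)) ≤ T.U c := hov.symm.le.trans inf_le_right
    haveI := (T.isAffineOpen_U d).isLocalization_basicOpen (ψd (frac _ c d))
    obtain ⟨⟨g, ⟨_, n, rfl⟩⟩, hg⟩ := IsLocalization.surj (Submonoid.powers (ψd (frac _ c d)))
      (Z.presheaf.map (homOfLE hle).op f)
    have hg' : Z.presheaf.map (homOfLE hle).op f *
        Z.presheaf.map (homOfLE (Z.basicOpen_le (ψd (frac _ c d)))).op (ψd (frac _ c d) ^ n) =
        Z.presheaf.map (homOfLE (Z.basicOpen_le (ψd (frac _ c d)))).op g := hg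
    have h3 := congrArg (Z.germToFunctionField (Z.basicOpen (ψd (frac _ c d)))) hg'
    rw [map_mul, RatSingReg.germ_res, RatSingReg.germ_res, RatSingReg.germ_res, map_pow, hgd] at h3
    let F := Z.germToFunctionField (T.U c) f
    let G := Z.germToFunctionField (T.U d) g
    have h4 : F * toFF q (c : A) ^ n = G * toFF q (d : A) ^ n := by
      rw [show G = F * (toFF q (c : A) / toFF q (d : A)) ^ n from h3.symm, div_pow, mul_assoc,
        div_mul_cancel₀ _ (pow_ne_zero n hd0)]
    obtain ⟨r, hr⟩ := inter_le_range q hq hcov (F * toFF q (c : A) ^ n)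
      (mul_mem ⟨f, rfl⟩ (pow_mem (range_toFF_le q _ ⟨_, rfl⟩) n))
      (h4 ▸ mul_mem ⟨g, rfl⟩ (pow_mem (range_toFF_le q _ ⟨_, rfl⟩) n))
    have hrI := hmem n r (by rw [hr, mul_div_cancel_right₀ _ (pow_ne_zero n hc0)]; exact ⟨f, rfl⟩)
      (by rw [hr, h4, mul_div_cancel_right₀ _ (pow_ne_zero n hd0)]; exact ⟨g, rfl⟩)
    let x : BlowUp.affineAlgebra A (Ideal.span {a, b}) (c : A) :=
      ⟨_, mul_invSelf_pow_mem (Ideal.span {a, b}) c n r hrI⟩
    have hx : x * algebraMap A _ ((c : A) ^ n) = algebraMap A _ r := Subtype.ext (by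
      show algebraMap A (Localization.Away (c : A)) r * IsLocalization.Away.invSelf (c : A) ^ n *
        algebraMap A (Localization.Away (c : A)) ((c : A) ^ n) = algebraMap A (Localization.Away (c : A)) r
      rw [map_pow, mul_assoc, ← mul_pow, mul_comm (IsLocalization.Away.invSelf (c : A)),
        IsLocalization.Away.mul_invSelf, one_pow, mul_one])
    refine ⟨x, Scheme.germToFunctionField_injective Z (T.U c) (mul_right_cancel₀ (pow_ne_zero n hc0) ?_)⟩
    have h5 := congrArg (fun y => Z.germToFunctionField (T.U c) (ψ y)) hx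
    simp only [map_mul, hψr, map_pow] at h5
    exact h5.trans hr

/-- The comparison with the blow-up is an isomorphism over a chart. -/
theorem isIso_over_chart (c : (Ideal.span {a, b} : Ideal A))
    (ψ : BlowUp.affineAlgebra A (Ideal.span {a, b}) (c : A) →+* Γ(Z, T.U c))
    (hψφ : Spec.map (CommRingCat.ofHom ψ) ≫ chart _ c = (T.isAffineOpen_U c).fromSpec ≫ T.φ)
    (hb : Function.Bijective ψ) : IsIso (T.φ ∣_ (chart _ c).opensRange) := by
  haveI : IsIso (CommRingCat.ofHom ψ) := (ConcreteCategory.isIso_iff_bijective _).2 hb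
  haveI : IsAffine (T.U c).toScheme := T.isAffineOpen_U c
  have h : T.φ ∣_ (chart _ c).opensRange =
      (T.isAffineOpen_U c).isoSpec.hom ≫ Spec.map (CommRingCat.ofHom ψ) ≫ (chart _ c).isoOpensRange.hom := by
    rw [← cancel_mono (chart _ c).opensRange.ι, morphismRestrict_ι, Category.assoc, Category.assoc,
      Scheme.Hom.isoOpensRange_hom_ι, hψφ, IsAffineOpen.isoSpec_hom_fromSpec_assoc]
    rfl
  rw [h]
  infer_instance

/-- **The lift to the blow-up is an isomorphism.** -/
theorem isIso_φ (hq : Function.Bijective q.appTop) [Nonempty ↥(T.U (genA a b)).toScheme]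
    [Nonempty ↥(T.U (genB a b)).toScheme]
    (hv : ∀ m : ℕ, Subsingleton (Coh.HH Z (ClSub.idealMod (I ^ m)) 1))
    (M : Z.Modules) (hMI : PicF.cl M * PicF.cl (ClSub.idealMod I) = 1) (hM : Subsingleton (Coh.HH Z M 1)) :
    IsIso T.φ := by
  haveI := RatSingReg.nonempty_inf (T.U (genA a b)) (T.U (genB a b))
  have hA : IsIso (T.φ ∣_ (chart _ (genA a b)).opensRange) := by
    obtain ⟨ψ, hψ, hψφ⟩ := T.exists_chartMap (genA a b)
    exact T.isIso_over_chart _ ψ hψφ
      (T.bijective_chartMap hq (genA a b) (genB a b) T.cover (T.mem_pow hq hv M hMI hM) ψ hψ)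
  have hB : IsIso (T.φ ∣_ (chart _ (genB a b)).opensRange) := by
    obtain ⟨ψ, hψ, hψφ⟩ := T.exists_chartMap (genB a b)
    exact T.isIso_over_chart _ ψ hψφ
      (T.bijective_chartMap hq (genB a b) (genA a b) (sup_comm _ _ |>.trans T.cover)
        (fun n r h1 h2 => T.mem_pow hq hv M hMI hM n r h2 h1) ψ hψ)
  have hcov : ⨆ i : ULift.{u} Bool, (chart (Ideal.span {a, b}) (if i.down then genA a b else genB a b)).opensRange = ⊤ := by
    refine top_le_iff.1 fun x _ => ?_
    obtain ⟨c, hc⟩ := chart_covers (Ideal.span {a, b}) x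
    rcases (Opens.mem_sup.1 (chart_cover a b |>.ge (trivial : x ∈ (⊤ : (localBlowUp (Ideal.span {a, b})).Opens)))) with h | h
    · exact Opens.mem_iSup.2 ⟨⟨true⟩, h⟩
    · exact Opens.mem_iSup.2 ⟨⟨false⟩, h⟩
  refine (IsZariskiLocalAtTarget.iff_of_iSup_eq_top (P := MorphismProperty.isomorphisms Scheme.{u}) _ hcov).2 ?_
  rintro ⟨_ | _⟩
  · exact hB
  · exact hA

end TwoGen

end Groth.Agent.Castelnuovo
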