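import Groth.Agent.Castelnuovo.Sections
import Groth.Agent.NormX.AmpleFibre
import Groth.Agent.NormX.ProperDescent
import Groth.Agent.AlgSpDec.MonoPoint
import Groth.Agent.QCoh.RpushProper

/-!
# A Stein contraction of an exceptional curve is a blow-up
-/

noncomputable section

set_option linter.style.haveILetI false
set_option linter.unusedSectionVars false
set_option autoImplicit false
set_option backward.isDefEq.respectTransparency false
set_option backward.isDefEq.respectTransparency.types false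
set_option maxHeartbeats 1000000

universe u

open CategoryTheory CategoryTheory.Limits AlgebraicGeometry TopologicalSpace Opposite

namespace Groth.Agent.Castelnuovo

open Groth.Agent Groth.Agent.BlowUpLib
open scoped Groth.Agent.H23.PicMul

variable {E X X' : Scheme.{u}}

theorem vanishingIdeal_eq_centre {A : Type u} [CommRing A] (𝔭 : ↥(Spec (CommRingCat.of A)))
    (hp : IsClosed ({𝔭} : Set ↥(Spec (CommRingCat.of A)))) :
    Scheme.IdealSheafData.vanishingIdeal (⟨_, hp⟩ : Closeds ↥(Spec (CommRingCat.of A))) = centre 𝔭.asIdeal := by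
  refine Scheme.IdealSheafData.ext_of_isAffine ?_
  rw [centre_top, Scheme.IdealSheafData.vanishingIdeal_ideal]
  ext f
  obtain ⟨g, rfl⟩ := (ConcreteCategory.bijective_of_isIso (Scheme.ΓSpecIso (CommRingCat.of A)).inv).2 f
  rw [PrimeSpectrum.mem_vanishingIdeal, Ideal.mem_map_iff_of_surjective _
    (ConcreteCategory.bijective_of_isIso (Scheme.ΓSpecIso (CommRingCat.of A)).inv).2]
  have hpre : ∀ p : Spec (Γ(Spec (CommRingCat.of A), ⊤)), (isAffineOpen_top _).fromSpec p =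
      Spec.map (Scheme.ΓSpecIso (CommRingCat.of A)).inv p := fun p => by
    rw [IsAffineOpen.fromSpec_top, Scheme.isoSpec_Spec_inv]
  constructor
  · intro h
    refine ⟨g, ?_, rfl⟩
    let p : Spec (Γ(Spec (CommRingCat.of A), ⊤)) := Spec.map (Scheme.ΓSpecIso (CommRingCat.of A)).hom 𝔭
    have hp' : Spec.map (Scheme.ΓSpecIso (CommRingCat.of A)).inv p = 𝔭 := by
      show (Spec.map (Scheme.ΓSpecIso (CommRingCat.of A)).hom ≫ Spec.map (Scheme.ΓSpecIso (CommRingCat.of A)).inv) 𝔭 = _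
      rw [← Spec.map_comp, Iso.inv_hom_id, Spec.map_id]
      rfl
    rw [← hp']
    exact h p (show (isAffineOpen_top _).fromSpec p = 𝔭 from (hpre p).trans hp')
  · rintro ⟨g', hg', hgg⟩ p hp'
    rw [← hgg]
    have h := (hpre p).symm.trans (show (isAffineOpen_top _).fromSpec p = 𝔭 from hp')
    rw [← h] at hg'
    exact hg'

theorem comap_vanishingIdeal_fromSpec {U : X'.Opens} (hU : IsAffineOpen U) (y : X') (hy : IsClosed ({y} : Set X'))
    (hyU : y ∈ U) (hp : IsClosed ({(show ↥(Spec Γ(X', U)) from hU.primeIdealOf ⟨y, hyU⟩)} : Set ↥(Spec Γ(X', U)))) :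
    (Scheme.IdealSheafData.vanishingIdeal ⟨{y}, hy⟩).comap hU.fromSpec =
      Scheme.IdealSheafData.vanishingIdeal (⟨_, hp⟩ : Closeds ↥(Spec Γ(X', U))) := by
  rw [comap_fromSpec _ ⟨U, hU⟩]
  refine (congrArg centre ?_).trans (vanishingIdeal_eq_centre (A := Γ(X', U)) (hU.primeIdealOf ⟨y, hyU⟩) hp).symm
  rw [Scheme.IdealSheafData.vanishingIdeal_ideal, ← PrimeSpectrum.vanishingIdeal_singleton]
  congr 1
  ext q
  constructor
  · intro hq
    exact (IsAffineOpen.fromSpec hU).isOpenEmbedding.injective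
      ((show (IsAffineOpen.fromSpec hU) q = y from hq).trans (IsAffineOpen.fromSpec_primeIdealOf hU ⟨y, hyU⟩).symm)
  · intro hq
    show (IsAffineOpen.fromSpec hU) q = y
    rw [show q = _ from hq]
    exact IsAffineOpen.fromSpec_primeIdealOf hU ⟨y, hyU⟩

theorem bijective_appTop_overSpec (b : X ⟶ X') (hbij : ∀ U : X'.Opens, Function.Bijective (b.app U))
    {U : X'.Opens} (hU : IsAffineOpen U) : Function.Bijective (QCoh.overSpec b hU).appTop := by
  haveI : IsIso (b.app (U.ι ''ᵁ ⊤)) := (ConcreteCategory.isIso_iff_bijective _).2 (hbij _)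
  haveI : IsIso (b ∣_ U).appTop := by
    rw [Scheme.Hom.appTop, morphismRestrict_app]
    infer_instance
  haveI : IsIso hU.isoSpec.hom.appTop := inferInstance
  haveI : IsIso (QCoh.overSpec b hU).appTop := by
    rw [show QCoh.overSpec b hU = (b ∣_ U) ≫ hU.isoSpec.hom from rfl, Scheme.Hom.comp_appTop]
    infer_instance
  exact ConcreteCategory.bijective_of_isIso _

variable (ι : E ⟶ X) [IsClosedImmersion ι] (b : X ⟶ X')

/-- The lift of a curve to a window. -/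
theorem exists_window (hE : Models.IsExcCurve ι) (U : X'.Opens) (h : Set.range ι ⊆ b ⁻¹' (U : Set X')) :
    ∃ ι' : E ⟶ (b ⁻¹ᵁ U).toScheme, ι' ≫ (b ⁻¹ᵁ U).ι = ι ∧ IsClosedImmersion ι' ∧ Models.IsExcCurve ι' ∧
      ι'.ker = ι.ker.comap (b ⁻¹ᵁ U).ι := by
  let Z := b ⁻¹ᵁ U
  let ι' : E ⟶ Z.toScheme := IsOpenImmersion.lift Z.ι ι (by rw [Scheme.Opens.range_ι]; exact h)
  have hι' : ι' ≫ Z.ι = ι := IsOpenImmersion.lift_fac _ _ _
  haveI : IsClosedImmersion ι' := by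
    haveI : IsClosedImmersion (ι' ≫ Z.ι) := hι'.symm ▸ inferInstance
    exact IsClosedImmersion.of_comp ι' Z.ι
  have hker : ι'.ker = ι.ker.comap Z.ι := by
    have hp := isPullback_lift ι Z ι' hι'
    rw [← Scheme.IdealSheafData.ker_fst_of_isClosedImmersion ι Z.ι]
    conv_lhs => rw [← hp.isoPullback_hom_fst, Scheme.Hom.ker_comp_of_isIso]
  refine ⟨ι', hι', inferInstance, ?_, hker⟩
  obtain ⟨hC, k, hk, e, ⟨t⟩⟩ := hE
  have hC' : BlowUp.IsEffCartierIdeal ι'.ker := hker ▸ isEffCartier_comap_flat Z.ι hC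
  refine ⟨hC', k, hk, e, ?_⟩
  obtain ⟨i₂⟩ := CurveAlgEqLib.nonempty_pullback_idealMod Z.ι ((S8914.result _).2 hC)
    (show PicF.IsInvertible (ClSub.idealMod (ι.ker.comap Z.ι)) by rw [← hker]; exact (S8914.result _).2 hC')
  rw [← hker] at i₂
  exact ⟨(Scheme.Modules.pullback (e.hom ≫ ι')).mapIso i₂.symm ≪≫
    (Scheme.Modules.pullbackComp (e.hom ≫ ι') Z.ι).app _ ≪≫
    (Scheme.Modules.pullbackCongr (by rw [Category.assoc, hι'])).app _ ≪≫ t⟩

/-- The conormal module is ample on the fibre. -/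
theorem isAmple_fibre [IsLocallyNoetherian X'] [IsProper b] (hE : Models.IsExcCurve ι) (y : X')
    (hfib : Set.range ι = b ⁻¹' {y}) :
    CohB1.IsAmple ((Scheme.Modules.pullback (b.fiberι y)).obj (ClSub.idealMod ι.ker)) := by
  obtain ⟨hC, k, hk, e, ⟨t⟩⟩ := id hE
  obtain ⟨hint, hN, -⟩ := curve_facts ι hE
  haveI := hint
  haveI := hN
  obtain ⟨l, hl⟩ := AlgSpDec.exists_factor_residueField (ι ≫ b) y fun x => by
    rw [Scheme.Hom.comp_apply]
    exact hfib.le ⟨x, rfl⟩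
  let j : E ⟶ b.fiber y := pullback.lift ι l hl.symm
  have hj : j ≫ b.fiberι y = ι := pullback.lift_fst _ _ _
  haveI : IsClosedImmersion j := by
    haveI : IsClosedImmersion (j ≫ b.fiberι y) := hj.symm ▸ inferInstance
    exact IsClosedImmersion.of_comp j (b.fiberι y)
  haveI : Surjective j := ⟨fun z => by
    have hz : b.fiberι y z ∈ Set.range ι := hfib.ge ((b.range_fiberι y).le ⟨z, rfl⟩)
    obtain ⟨x, hx⟩ := hz
    exact ⟨x, (b.fiberι y).isEmbedding.injective (by rw [← Scheme.Hom.comp_apply, hj, hx])⟩⟩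
  haveI : IsProper (b.fiberToSpecResidueField y) := MorphismProperty.pullback_snd _ _ inferInstance
  refine NormX.isAmple_of_finite_surjective (A := X'.residueField y) (b.fiberToSpecResidueField y) j
    (PicClLib.isInvertible_pullback _ ((S8914.result _).2 hC)) ?_
  letI := MvPolynomial.gradedAlgebra (σ := Fin (1 + 1)) (R := k)
  haveI := P1Split.isNoetherian k
  haveI : CompactSpace (Proj (CohB1.polyGrading 1 k)) := inferInstanceAs (CompactSpace (CohB1.ProjSpace 1 k : Scheme.{u}))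
  have hcov : (⨆ g : CohB1.polyGrading 1 k 1, Proj.basicOpen (CohB1.polyGrading 1 k) (g : MvPolynomial (Fin (1 + 1)) k)) = ⊤ := by
    refine top_le_iff.1 ((P1Split.hcov k).ge.trans (iSup_le fun j => ?_))
    exact le_iSup_of_le ⟨MvPolynomial.X j.down, ProjPt.X_mem j.down⟩ le_rfl
  have h1 : CohB1.IsAmple ((Scheme.Modules.pullback e.inv).obj (Twist.twistProjSpace 1 k 1)) :=
    AmpleVan.isAmple_pullback_of_isEmbedding e.inv (Scheme.homeoOfIso e.symm).isEmbedding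
      (TwistCover.isAmple_of_cover Nat.one_pos hcov)
  exact AmpleX.isAmple_of_iso
    ((Scheme.Modules.pullback e.inv).mapIso t.symm ≪≫ (Scheme.Modules.pullbackComp e.inv (e.hom ≫ ι)).app _ ≪≫
      (Scheme.Modules.pullbackCongr (by rw [e.inv_hom_id_assoc, hj])).app _ ≪≫
      ((Scheme.Modules.pullbackComp j (b.fiberι y)).app _).symm) h1

/-- **Core criterion.** -/
theorem isContractionOf_of_fibre [IsNoetherian X] [IsNoetherian X'] [IsProper b] (hE : Models.IsExcCurve ι)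
    (hbij : ∀ U : X'.Opens, Function.Bijective (b.app U)) (y : X') (hy : IsClosed ({y} : Set X'))
    (hfib : Set.range ι = b ⁻¹' {y}) (hiso : IsIso (b ∣_ ⟨{y}ᶜ, hy.isOpen_compl⟩)) :
    Models.IsContractionOf ι b := by
  obtain ⟨hint, hNE, -⟩ := curve_facts ι hE
  haveI := hint
  have hinj : ∀ z z', b z = b z' → b z ≠ y → z = z' := by
    intro z z' h hz
    let O : X'.Opens := ⟨{y}ᶜ, hy.isOpen_compl⟩
    have hw : (⟨z, hz⟩ : (b ⁻¹ᵁ O).toScheme) = ⟨z', fun e => hz (h.trans e)⟩ := by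
      haveI : IsIso (b ∣_ O) := hiso
      refine (b ∣_ O).homeomorph.injective (O.ι.isOpenEmbedding.injective ?_)
      show O.ι ((b ∣_ O) _) = O.ι ((b ∣_ O) _)
      rw [← Scheme.Hom.comp_apply, ← Scheme.Hom.comp_apply, morphismRestrict_ι, Scheme.Hom.comp_apply,
        Scheme.Hom.comp_apply]
      exact h
    exact congrArg Subtype.val hw
  obtain ⟨W, hW, hWint⟩ := exists_integral_window ι hE.1
  haveI := hWint
  -- a neighbourhood of the centre with integral preimage and ample conormal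
  obtain ⟨V, hyV, hVamp⟩ := NormX.exists_isAmple_nhd b ((S8914.result _).2 hE.1) y (isAmple_fibre ι b hE y hfib)
  let U₀ : X'.Opens := ⟨(b '' (W : Set X)ᶜ)ᶜ, (b.isClosedMap _ W.isOpen.isClosed_compl).isOpen_compl⟩
  have hyU₀ : y ∈ U₀ := by
    rintro ⟨z, hz, hzy⟩
    exact hz (hW (hfib.ge hzy))
  have hU₀W : b ⁻¹ᵁ U₀ ≤ W := fun z hz => by_contra fun h => hz ⟨z, h, rfl⟩
  have hιU : ∀ {U : X'.Opens}, y ∈ U → Set.range ι ⊆ b ⁻¹' (U : Set X') := fun hyU z hz => by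
    rw [Set.mem_preimage, show b z = y from hfib.le hz]
    exact hyU
  -- the properties of a window
  have hwin : ∀ U : X'.Opens, U ≤ V → U ≤ U₀ → y ∈ U → (hU : IsAffineOpen U) →
      IsIntegral (b ⁻¹ᵁ U).toScheme ∧
        ∀ (ι' : E ⟶ (b ⁻¹ᵁ U).toScheme), IsClosedImmersion ι' → Models.IsExcCurve ι' →
          ι'.ker = ι.ker.comap (b ⁻¹ᵁ U).ι → CohB1.IsAmple (ClSub.idealMod ι'.ker) := by
    intro U hUV hUU₀ hyU hU
    refine ⟨?_, fun ι' _ hE' hker => ?_⟩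
    · obtain ⟨x, hx⟩ : ∃ x, x ∈ Set.range ι := ⟨_, ⟨genericPoint E, rfl⟩⟩
      haveI : Nonempty (b ⁻¹ᵁ U).toScheme := ⟨⟨x, hιU hyU hx⟩⟩
      exact isIntegral_of_isOpenImmersion (X.homOfLE ((b.preimage_mono hUU₀).trans hU₀W))
    · obtain ⟨i₂⟩ := CurveAlgEqLib.nonempty_pullback_idealMod (b ⁻¹ᵁ U).ι ((S8914.result _).2 hE.1)
        (show PicF.IsInvertible (ClSub.idealMod (ι.ker.comap (b ⁻¹ᵁ U).ι)) by
          rw [← hker]; exact (S8914.result _).2 hE'.1)
      rw [← hker] at i₂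
      exact AmpleX.isAmple_of_iso (((Scheme.Modules.restrictFunctorIsoPullback _).app _) ≪≫ i₂) (hVamp U hUV hU)
  -- two generators over a first window
  obtain ⟨U₁, hU₁, hyU₁, hle₁⟩ := exists_isAffineOpen_mem_and_subset (U := V ⊓ U₀) (x := y) ⟨hyV, hyU₀⟩
  haveI : IsNoetherianRing Γ(X', U₁) := IsLocallyNoetherian.component_noetherian ⟨U₁, hU₁⟩
  obtain ⟨hint₁, hamp₁⟩ := hwin U₁ (hle₁.trans inf_le_left) (hle₁.trans inf_le_right) hyU₁ hU₁
  haveI := hint₁
  obtain ⟨ι₁, hι₁, hcl₁, hE₁, hker₁⟩ := exists_window ι b hE U₁ (hιU hyU₁)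
  haveI := hcl₁
  haveI : IsProper (QCoh.overSpec b hU₁) := inferInstanceAs (IsProper ((b ∣_ U₁) ≫ hU₁.isoSpec.hom))
  obtain ⟨hv₁, -⟩ := vanish (A := Γ(X', U₁)) (QCoh.overSpec b hU₁) ι₁ hE₁ (hamp₁ ι₁ hcl₁ hE₁ hker₁)
  obtain ⟨a₁, c₁, N, hN, hgen₁, hna₁, hnc₁⟩ := exists_generators (A := Γ(X', U₁)) (QCoh.overSpec b hU₁)
    (bijective_appTop_overSpec b hbij hU₁) ι₁ hE₁ (hv₁ 2)
  -- shrink
  let Z₁ := b ⁻¹ᵁ U₁
  let N' : X.Opens := Z₁.ι ''ᵁ N
  have hιN : Set.range ι ⊆ N' := by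
    rintro _ ⟨x, rfl⟩
    exact ⟨ι₁ x, hN ⟨x, rfl⟩, (Scheme.Hom.comp_apply ι₁ Z₁.ι x).symm.trans (congr($(hι₁) x))⟩
  let U₃ : X'.Opens := ⟨(b '' (N' : Set X)ᶜ)ᶜ, (b.isClosedMap _ N'.isOpen.isClosed_compl).isOpen_compl⟩
  have hyU₃ : y ∈ U₃ := by
    rintro ⟨z, hz, hzy⟩
    exact hz (hιN (hfib.ge hzy))
  have hU₃N : b ⁻¹ᵁ U₃ ≤ N' := fun z hz => by_contra fun h => hz ⟨z, h, rfl⟩
  obtain ⟨U₂, hU₂, hyU₂, hle₂⟩ := exists_isAffineOpen_mem_and_subset (U := U₁ ⊓ U₃) (x := y) ⟨hyU₁, hyU₃⟩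
  have h21 : U₂ ≤ U₁ := hle₂.trans inf_le_left
  haveI : IsNoetherianRing Γ(X', U₂) := IsLocallyNoetherian.component_noetherian ⟨U₂, hU₂⟩
  obtain ⟨hint₂, hamp₂⟩ := hwin U₂ (h21.trans (hle₁.trans inf_le_left)) (h21.trans (hle₁.trans inf_le_right)) hyU₂ hU₂
  haveI := hint₂
  obtain ⟨ι₂, hι₂, hcl₂, hE₂, hker₂⟩ := exists_window ι b hE U₂ (hιU hyU₂)
  haveI := hcl₂
  haveI : IsProper (QCoh.overSpec b hU₂) := inferInstanceAs (IsProper ((b ∣_ U₂) ≫ hU₂.isoSpec.hom))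
  let q₁ := QCoh.overSpec b hU₁
  let q₂ := QCoh.overSpec b hU₂
  let j := X.homOfLE (b.preimage_mono h21)
  have hj : j ≫ Z₁.ι = (b ⁻¹ᵁ U₂).ι := X.homOfLE_ι _
  let ρ : Γ(X', U₁) →+* Γ(X', U₂) := (X'.presheaf.map (homOfLE h21).op).hom
  have hsq : q₂ ≫ Spec.map (CommRingCat.ofHom ρ) = j ≫ q₁ := by
    rw [← cancel_mono hU₁.fromSpec]
    have e1 : q₁ ≫ hU₁.fromSpec = Z₁.ι ≫ b := (AmpleVan.isPullback_overSpec' b hU₁).w.symm
    have e2 : q₂ ≫ hU₂.fromSpec = (b ⁻¹ᵁ U₂).ι ≫ b := (AmpleVan.isPullback_overSpec' b hU₂).w.symm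
    rw [Category.assoc, Category.assoc, e1, ← Category.assoc j, hj, ← e2]
    congr 1
    exact hU₁.map_fromSpec hU₂ (homOfLE h21).op
  have hcentre : ∀ P : Ideal Γ(X', U₁), ((centre P).comap q₁).comap j = (centre (P.map ρ)).comap q₂ := by
    intro P
    rw [← Scheme.IdealSheafData.comap_comp, ← hsq, Scheme.IdealSheafData.comap_comp]
    congr 1
    refine Scheme.IdealSheafData.ext_of_isAffine ?_
    rw [ideal_comap_centre, centre_top, Ideal.map_map]
    congr 1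
    show ((Scheme.ΓSpecIso (CommRingCat.of Γ(X', U₁))).inv ≫ (Spec.map (CommRingCat.ofHom ρ)).appLE ⊤ ⊤ le_top).hom = _
    rw [show (Spec.map (CommRingCat.ofHom ρ)).appLE ⊤ ⊤ le_top = (Spec.map (CommRingCat.ofHom ρ)).appTop from
      (Scheme.Hom.app_eq_appLE _).symm, ← Scheme.ΓSpecIso_inv_naturality]
    rfl
  have hkerj : ι₂.ker = ι₁.ker.comap j := by
    rw [hker₂, hker₁, ← Scheme.IdealSheafData.comap_comp, hj]
  have hgen₂ : ι₂.ker = (centre ((Ideal.span {a₁, c₁}).map ρ)).comap q₂ := by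
    have hjN : Set.range j ⊆ Set.range N.ι := by
      rw [Scheme.Opens.range_ι]
      rintro _ ⟨z, rfl⟩
      obtain ⟨w, hw, hwz⟩ := hU₃N (hle₂.trans inf_le_right (show b z.1 ∈ U₂ from z.2))
      have : j z = w := Z₁.ι.isOpenEmbedding.injective (((Scheme.Hom.comp_apply j Z₁.ι z).symm.trans (congr($(hj) z))).trans hwz.symm)
      rw [this]
      exact hw
    rw [hkerj, ← hcentre, ← IsOpenImmersion.lift_fac N.ι j hjN, Scheme.IdealSheafData.comap_comp,
      Scheme.IdealSheafData.comap_comp, hgen₁]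
  have hnot : ∀ c : Γ(X', U₁), (∃ e : E, ∀ W : Z₁.toScheme.affineOpens, ι₁ e ∈ W.1 →
      ι₁.ker.ideal W ≠ ((centre (Ideal.span {c})).comap q₁).ideal W) →
      ∃ e : E, ∀ W : (b ⁻¹ᵁ U₂).toScheme.affineOpens, ι₂ e ∈ W.1 →
        ι₂.ker.ideal W ≠ Ideal.span {strHom q₂ W.1 (ρ c)} := by
    rintro c ⟨e, he⟩
    refine ⟨e, fun W heW heq => he ⟨j ''ᵁ W.1, W.2.image_of_isOpenImmersion j⟩ ⟨ι₂ e, heW, ?_⟩ ?_⟩
    · refine Z₁.ι.isOpenEmbedding.injective (((Scheme.Hom.comp_apply j Z₁.ι (ι₂ e)).symm.trans (congr($(hj) (ι₂ e)))).trans ?_)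
      exact ((Scheme.Hom.comp_apply ι₂ _ e).symm.trans (congr($(hι₂) e))).trans
        ((Scheme.Hom.comp_apply ι₁ Z₁.ι e).symm.trans (congr($(hι₁) e))).symm
    · have hEq : (ι₁.ker.comap j).ideal W = (((centre (Ideal.span {c})).comap q₁).comap j).ideal W := by
        rw [← hkerj, hcentre, Ideal.map_span, Set.image_singleton, ideal_comap_centre, Ideal.map_span,
          Set.image_singleton, heq]
      rw [Scheme.IdealSheafData.ideal_comap_of_isOpenImmersion, Scheme.IdealSheafData.ideal_comap_of_isOpenImmersion] at hEq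
      exact Ideal.comap_injective_of_surjective _ (ConcreteCategory.bijective_of_isIso _).2 hEq
  obtain ⟨hv₂, M, hMI, hM⟩ := vanish (A := Γ(X', U₂)) q₂ ι₂ hE₂ (hamp₂ ι₂ hcl₂ hE₂ hker₂)
  -- the local criterion
  let 𝔭 := hU₂.primeIdealOf ⟨y, hyU₂⟩
  have hq : ∀ z : (b ⁻¹ᵁ U₂).toScheme, hU₂.fromSpec (q₂ z) = b z.1 := fun z => by
    have h := (AmpleVan.isPullback_overSpec' b hU₂).w
    exact (congr($h z)).symm
  have h𝔭 : hU₂.fromSpec 𝔭 = y := hU₂.fromSpec_primeIdealOf ⟨y, hyU₂⟩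
  have hfi := hU₂.fromSpec.isOpenEmbedding.injective
  have hp : IsClosed ({𝔭} : Set ↥(Spec (CommRingCat.of Γ(X', U₂)))) := by
    rw [show ({𝔭} : Set ↥(Spec Γ(X', U₂))) = hU₂.fromSpec ⁻¹' {y} from Set.ext fun p =>
      ⟨fun h => (congrArg _ h).trans h𝔭, fun h => hfi (h.trans h𝔭.symm)⟩]
    exact hy.preimage hU₂.fromSpec.continuous
  obtain ⟨hreg, hdim, hbl⟩ := local_contraction (A := Γ(X', U₂)) q₂ ι₂ (bijective_appTop_overSpec b hbij hU₂) hE₂ 𝔭 hp
    (Set.ext fun z => by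
      constructor
      · rintro ⟨x, rfl⟩
        refine hfi ((hq _).trans (?_ : _ = hU₂.fromSpec 𝔭))
        rw [h𝔭]
        exact hfib.le ⟨x, by rw [← hι₂]; rfl⟩
      · intro hz
        obtain ⟨x, hx⟩ := hfib.ge (show b z.1 = y from (hq z).symm.trans ((congrArg _ hz).trans h𝔭))
        exact ⟨x, Subtype.ext ((show (ι₂ ≫ (b ⁻¹ᵁ U₂).ι) x = ι x by rw [hι₂]).trans hx)⟩)
    (fun z z' h hne => Subtype.ext (hinj z.1 z'.1 ((hq z).symm.trans ((congrArg _ h).trans (hq z')))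
      fun e => hne (hfi ((hq z).trans (e.trans h𝔭.symm)))))
    (ρ a₁) (ρ c₁) (fun W => by rw [hgen₂, ideal_comap_centre, Ideal.map_span, Set.image_pair])
    (hnot a₁ hna₁) (hnot c₁ hnc₁) hv₂ M hMI hM
  letI := TopCat.Presheaf.algebra_section_stalk X'.presheaf (⟨y, hyU₂⟩ : U₂)
  haveI := hU₂.isLocalization_stalk ⟨y, hyU₂⟩
  let eL : Localization.AtPrime 𝔭.asIdeal ≃+* X'.presheaf.stalk y :=
    (IsLocalization.algEquiv 𝔭.asIdeal.primeCompl _ _).toRingEquiv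
  refine ⟨inferInstance, inferInstance, y, hy, ?_, ?_, ?_, ?_⟩
  · refine Set.Subset.antisymm ?_ ?_
    · rintro _ ⟨x, rfl⟩
      exact hfib.le ⟨x, rfl⟩
    · rintro _ rfl
      exact ⟨genericPoint E, hfib.le ⟨genericPoint E, rfl⟩⟩
  · haveI := hreg
    exact IsRegularLocalRing.of_ringEquiv eL
  · rw [← ringKrullDim_eq_of_ringEquiv eL, hdim]
  -- glue
  let O : X'.Opens := ⟨{y}ᶜ, hy.isOpen_compl⟩
  let J := Scheme.IdealSheafData.vanishingIdeal (⟨{y}, hy⟩ : Closeds X')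
  have hO : J.comap O.ι = ⊤ := by
    rw [← Scheme.IdealSheafData.support_eq_bot_iff]
    ext z
    simp only [Scheme.IdealSheafData.support_comap, TopologicalSpace.Closeds.coe_bot, Set.mem_empty_iff_false, iff_false]
    intro hz
    have h1 : O.ι z ∈ closure ({y} : Set X') := by
      simpa [J] using hz
    rw [hy.closure_eq] at h1
    exact z.2 h1
  haveI : IsIso (b ∣_ O) := hiso
  let V' : ULift.{u} Bool → Scheme.{u} := fun i => if i.down then Spec Γ(X', U₂) else O.toScheme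
  let jj : ∀ i, V' i ⟶ X' := fun i => match i with | ⟨true⟩ => hU₂.fromSpec | ⟨false⟩ => O.ι
  haveI : ∀ i, IsOpenImmersion (jj i) := fun i =>
    match i with
    | ⟨true⟩ => inferInstanceAs (IsOpenImmersion hU₂.fromSpec)
    | ⟨false⟩ => inferInstanceAs (IsOpenImmersion O.ι)
  refine isBlowUp_of_local (ι := ULift.{u} Bool) (V := V') jj
    (P := fun i => if i.down then (b ⁻¹ᵁ U₂).toScheme else (b ⁻¹ᵁ O).toScheme) ?_
    (fun i => match i with | ⟨true⟩ => q₂ | ⟨false⟩ => b ∣_ O)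
    (fun i => match i with | ⟨true⟩ => (b ⁻¹ᵁ U₂).ι | ⟨false⟩ => (b ⁻¹ᵁ O).ι) ?_ ?_
  · intro x
    by_cases hx : x = y
    · exact ⟨⟨true⟩, 𝔭, hx ▸ h𝔭⟩
    · exact ⟨⟨false⟩, ⟨x, hx⟩, rfl⟩
  · rintro ⟨_ | _⟩
    · exact isPullback_morphismRestrict b O
    · exact (AmpleVan.isPullback_overSpec' b hU₂).flip
  · rintro ⟨_ | _⟩
    · show BlowUp.IsBlowUp (b ∣_ O) (J.comap O.ι)
      rw [hO, ← Category.comp_id (b ∣_ O)]
      exact isBlowUp_iso_comp (b ∣_ O) (isBlowUp_id_top _)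
    · show BlowUp.IsBlowUp q₂ (J.comap hU₂.fromSpec)
      rw [comap_vanishingIdeal_fromSpec hU₂ y hy hyU₂ hp]
      exact hbl

end Groth.Agent.Castelnuovo
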