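import Groth.Agent.MdlInter.Euler
import Groth.Agent.QCoh.HHExact
import Groth.Agent.IntSym.Cartier
import Groth.Agent.VolLib.UnifTools
import Groth.Agent.AmpleVan.ThickPush
import Groth.Agent.AmpleX.Sect
import Groth.Agent.TrivThick.Basic
import Groth.Agent.ZeroSchX.Basic

/-! Lifting sections of invertible modules from closed subschemes. -/

noncomputable section

set_option linter.style.haveILetI false
set_option linter.unusedSectionVars false
set_option autoImplicit false
set_option backward.isDefEq.respectTransparency false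
set_option backward.isDefEq.respectTransparency.types false
set_option maxHeartbeats 1000000

universe u

open CategoryTheory CategoryTheory.Limits AlgebraicGeometry TopologicalSpace Opposite

namespace Groth.Agent.Castelnuovo

open Groth.Agent
open scoped Groth.Agent.H23.PicMul

/-- An epimorphic endomorphism of an invertible module is an isomorphism. -/
theorem isIso_of_epi_endo {X : Scheme.{u}} {L : X.Modules} (hL : PicF.IsInvertible L) (s : L ⟶ L) [Epi s] :
    IsIso s := by
  refine DivX.isIso_of_frames s fun x => ?_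
  obtain ⟨U, hU, e, he⟩ := InvX.exists_frame hL x
  obtain ⟨W, hW, hxW, hWU⟩ := exists_isAffineOpen_mem_and_subset (U := U) (x := x) hU
  have hf := he.res hWU
  refine ⟨W, hxW, AModX.res L hWU e, hf, ?_⟩
  let f₀ := AModX.res L hWU e
  obtain ⟨g, hg⟩ := hf.exists_coord le_rfl (s.app W f₀)
  rw [AModX.res_self] at hg
  obtain ⟨r, hr⟩ := QCoh.app_surjective_of_epi (ZeroSchX.isQCoh_inv hL)
    (ZeroSchX.isQCoh_inv hL) s hW f₀
  obtain ⟨c, hc⟩ := hf.exists_coord le_rfl r
  rw [AModX.res_self] at hc
  have hu : IsUnit g := by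
    refine isUnit_iff_exists_inv'.2 ⟨c, hf.coord_unique le_rfl ?_⟩
    rw [mul_smul, one_smul, AModX.res_self, ← hg, ← Scheme.Modules.Hom.app_smul, ← hc, hr]
  rw [hg]
  exact InvX.IsFrame.isUnit_smul hf hu

variable {X Z : Scheme.{u}} (f : Z ⟶ X) [IsClosedImmersion f] {B : X.Modules}

/-- A surjection onto the direct image of the restriction agrees with the restriction up to an automorphism. -/
theorem exists_locus_of_epi (hB : PicF.IsInvertible B)
    (g : B ⟶ (Scheme.Modules.pushforward f).obj ((Scheme.Modules.pullback f).obj B)) [Epi g]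
    (hsurj : Function.Surjective (g.app ⊤))
    (t : Γ((Scheme.Modules.pullback f).obj B, ⊤)) :
    ∃ s : Γ(B, ⊤), f ⁻¹ᵁ AmpleX.locus s = AmpleX.locus t := by
  let P := (Scheme.Modules.pullback f).obj B
  have hP : PicF.IsInvertible P := PicClLib.isInvertible_pullback f hB
  let adj := Scheme.Modules.pullbackPushforwardAdjunction f
  let g' : P ⟶ P := (adj.homEquiv _ _).symm g
  have hg' : g' = (Scheme.Modules.pullback f).map g ≫ adj.counit.app P := adj.homEquiv_counit _ _ g
  haveI : IsIso (adj.counit.app P) := AmpleVan.isIso_counit f (ZeroSchX.isQCoh_inv hP)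
  haveI : Epi ((Scheme.Modules.pullback f).map g) :=
    haveI := adj.isLeftAdjoint
    inferInstance
  haveI : Epi g' := by rw [hg']; exact epi_comp _ _
  haveI := isIso_of_epi_endo hP g'
  have hgg : g = adj.unit.app B ≫ (Scheme.Modules.pushforward f).map g' :=
    (((adj.homEquiv _ _).apply_symm_apply g).symm).trans (adj.homEquiv_unit _ _ _)
  obtain ⟨s, hs⟩ := hsurj t
  refine ⟨s, ?_⟩
  have h4 : g'.app ⊤ (InvX.pullElt f s) = t := by
    rw [← hs]
    exact (congr(($hgg).app ⊤ s)).symm
  rw [← h4]
  refine Eq.trans ?_ (AmpleX.locus_iso (asIso g') (InvX.pullElt f s)).symm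
  exact (AmpleX.locus_pullElt hB f _).symm

theorem app_iso_surjective {M N : X.Modules} (e : M ≅ N) (U : X.Opens) : Function.Surjective (e.hom.app U) :=
  fun n => ⟨e.inv.app U n, congr(($(e.inv_hom_id)).app U n)⟩

/-- A short exact sequence with vanishing `H¹` of the first term gives sections. -/
theorem exists_locus_of_shortExact (hB : PicF.IsInvertible B) {S : ShortComplex X.Modules} (hS : S.ShortExact)
    (h1 : Subsingleton (Coh.HH X S.X₁ 1)) (b : B ≅ S.X₂)
    (c : (Scheme.Modules.pushforward f).obj ((Scheme.Modules.pullback f).obj B) ≅ S.X₃)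
    (t : Γ((Scheme.Modules.pullback f).obj B, ⊤)) :
    ∃ s : Γ(B, ⊤), f ⁻¹ᵁ AmpleX.locus s = AmpleX.locus t := by
  haveI := hS.epi_g
  exact exists_locus_of_epi f hB (b.hom ≫ S.g ≫ c.symm.hom)
    ((app_iso_surjective c.symm ⊤).comp
      ((QCoh.app_top_surjective_of_HH_one hS h1).comp (app_iso_surjective b ⊤))) t

/-- If `H¹(I ⊗ B) = 0`, every non-vanishing pattern on the closed subscheme lifts. -/
theorem exists_locus_lift (hB : PicF.IsInvertible B)
    (h1 : Subsingleton (Coh.HH X (CohB1.tensorMod (ClSub.idealMod f.ker) B) 1))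
    (t : Γ((Scheme.Modules.pullback f).obj B, ⊤)) :
    ∃ s : Γ(B, ⊤), f ⁻¹ᵁ AmpleX.locus s = AmpleX.locus t := by
  obtain ⟨h, hses⟩ := VolLib.ses_tw hB (IntSym.shortExact_toSubscheme f.ker)
  obtain ⟨b⟩ := H23.PicMul.cl_eq_iff.1 (show PicF.cl B = PicF.cl (CohB1.tensorMod (Coh.structureModule X) B) by
    rw [H23.PicMul.cl_tensor, ← H23.PicMul.one_def, one_mul])
  obtain ⟨c⟩ := MdlInter.nonempty_push_pullback f B (CurveTensor.commIso (ClSub.quotMod f.ker) B)
  refine exists_locus_of_shortExact f hB hses ?_ b c t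
  exact h1

end Groth.Agent.Castelnuovo
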