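import Groth.Agent.Castelnuovo.ChartIso
import Groth.Agent.Goldman.Scheme
import Groth.Agent.AlgSpDec.LimQuasiFiniteScheme
import Groth.Agent.P1Split.Basic
import Groth.Agent.H23.StalkPrimes
import Groth.Agent.FComplLib.IdealComap
import Mathlib.AlgebraicGeometry.ZariskisMainTheorem

/-!
# The local contraction criterion
-/

noncomputable section

set_option linter.style.haveILetI false
set_option linter.unusedSectionVars false
set_option autoImplicit false
set_option backward.isDefEq.respectTransparency false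
set_option backward.isDefEq.respectTransparency.types false
set_option maxHeartbeats 1000000

universe u

open CategoryTheory CategoryTheory.Limits AlgebraicGeometry TopologicalSpace Opposite IsLocalRing

namespace Groth.Agent.Castelnuovo

open Groth.Agent Groth.Agent.BlowUpLib
open scoped Groth.Agent.H23.PicMul

/-- The topological facts about the exceptional curve. -/
theorem curve_facts {E X : Scheme.{u}} (ι : E ⟶ X) (hE : Models.IsExcCurve ι) :
    ∃ _ : IsIntegral E, IsNoetherian E ∧ topologicalKrullDim E = 1 := by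
  obtain ⟨-, k, hk, e, -⟩ := id hE
  haveI := P1Split.isIntegral k
  haveI := P1Split.isNoetherian k
  haveI : Nonempty E := ⟨e.hom (Classical.arbitrary _)⟩
  haveI : IsIntegral E := isIntegral_of_isOpenImmersion e.inv
  haveI : IsLocallyNoetherian E := isLocallyNoetherian_of_isOpenImmersion e.inv
  haveI : CompactSpace E := (Scheme.homeoOfIso e).compactSpace
  exact ⟨inferInstance, { __ := ‹IsLocallyNoetherian E›, __ := ‹CompactSpace E› },
    ((Scheme.homeoOfIso e).symm.isHomeomorph.topologicalKrullDim_eq).trans (P1Split.dim_eq k)⟩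

variable {A : Type u} [CommRing A] {Z : Scheme.{u}} (q : Z ⟶ Spec (CommRingCat.of A))

/-- Where a function of the base does not vanish. -/
theorem mem_basicOpen_strHom {W : Z.Opens} (hW : IsAffineOpen W) {z : Z} (hz : z ∈ W) (r : A) :
    z ∈ Z.basicOpen (strHom q W r) ↔ r ∉ (q z).asIdeal := by
  obtain ⟨p, rfl⟩ : z ∈ Set.range hW.fromSpec := hW.range_fromSpec.ge hz
  have hq : q (hW.fromSpec p) = Spec.map (CommRingCat.ofHom (strHom q W)) p := by
    rw [SpecMap_strHom q ⟨W, hW⟩, Scheme.Hom.comp_apply]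
    rfl
  have hb : hW.fromSpec p ∈ Z.basicOpen (strHom q W r) ↔ p ∈ PrimeSpectrum.basicOpen (strHom q W r) := by
    rw [← hW.fromSpec_preimage_basicOpen]
    rfl
  rw [hb, hq, PrimeSpectrum.mem_basicOpen]
  rfl

/-- On an affine open inside a chart the ideal is generated by the generator of the chart. -/
theorem ideal_of_le_chart {I : Z.IdealSheafData} {P : Ideal A} (φ : Z ⟶ localBlowUp P) (hφ : φ ≫ toBase P = q)
    (hgen : ∀ W : Z.affineOpens, I.ideal W = P.map (strHom q W.1)) (c : P) (W : Z.affineOpens)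
    (hW : W.1 ≤ φ ⁻¹ᵁ (chart P c).opensRange) : I.ideal W = Ideal.span {strHom q W.1 c} := by
  refine le_antisymm ?_ ?_
  · have hle : Set.range (W.2.fromSpec ≫ φ) ⊆ Set.range (chart P c) := by
      rintro _ ⟨p, rfl⟩
      exact (hW (W.2.range_fromSpec.le (Set.mem_range_self p)) : _)
    obtain ⟨ψ, hψ⟩ := Spec.map_surjective (IsOpenImmersion.lift (chart P c) (W.2.fromSpec ≫ φ) hle)
    have hψ2 : Spec.map ψ ≫ chart P c = W.2.fromSpec ≫ φ := by rw [hψ, IsOpenImmersion.lift_fac]
    have hψs : Spec.map ψ ≫ chart P c ≫ toBase _ = Spec.map (CommRingCat.ofHom (strHom q W.1)) := by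
      rw [reassoc_of% hψ2, hφ, SpecMap_strHom]
    rw [chart_toBase, ← Spec.map_comp] at hψs
    have hψ' : ψ.hom.comp (algebraMap A _) = strHom q W.1 := congrArg CommRingCat.Hom.hom (Spec.map_injective hψs)
    rw [hgen, Ideal.map_le_iff_le_comap]
    intro x hx
    rw [Ideal.mem_comap, Ideal.mem_span_singleton']
    refine ⟨ψ.hom (frac _ ⟨x, hx⟩ c), ?_⟩
    rw [← hψ', RingHom.comp_apply, RingHom.comp_apply, ← map_mul, frac_mul]
  · rw [Ideal.span_singleton_le_iff_mem, hgen]
    exact Ideal.mem_map_of_mem _ c.2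

variable [IsProper q] {E : Scheme.{u}} (ι : E ⟶ Z) [IsClosedImmersion ι]

/-- The lift to the blow-up has finite fibres. -/
theorem finite_fibre (hE : Models.IsExcCurve ι) (𝔭 : PrimeSpectrum A)
    (hr : Set.range ι = q ⁻¹' {𝔭}) (hinj : ∀ z z', q z = q z' → q z ≠ 𝔭 → z = z')
    {P : Ideal A} (φ : Z ⟶ localBlowUp P) (hφ : φ ≫ toBase P = q) [IsProper φ]
    (hnc : ∀ x, ∃ e : E, φ (ι e) ≠ x) (x : localBlowUp P) : (φ ⁻¹' {x}).Finite := by
  have hq : ∀ z, q z = toBase P (φ z) := fun z => by rw [← Scheme.Hom.comp_apply, hφ]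
  by_cases hx : toBase P x = 𝔭
  swap
  · refine Set.Subsingleton.finite fun z hz z' hz' => hinj z z' ?_ ?_
    · rw [hq, hq, show φ z = x from hz, show φ z' = x from hz']
    · rw [hq, show φ z = x from hz]; exact hx
  obtain ⟨hint, hN, hdim⟩ := curve_facts ι hE
  haveI := hint
  haveI := hN
  let g := ι ≫ φ
  have hsub : φ ⁻¹' {x} ⊆ ι '' (g ⁻¹' {x}) := by
    intro z hz
    obtain ⟨e, rfl⟩ : z ∈ Set.range ι := by
      rw [hr]
      show q z = 𝔭
      rw [hq, show φ z = x from hz, hx]
    exact ⟨e, (Scheme.Hom.comp_apply ι φ e).trans hz, rfl⟩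
  refine Set.Finite.subset (Set.Finite.image _ ?_) hsub
  haveI : IsProper g := inferInstanceAs (IsProper (ι ≫ φ))
  let η := genericPoint E
  -- the image of the generic point is not closed
  have hη : ¬ IsClosed ({g η} : Set (localBlowUp P)) := by
    intro hc
    obtain ⟨e, he⟩ := hnc (g η)
    refine he ?_
    have h : g e ∈ closure ({g η} : Set (localBlowUp P)) :=
      specializes_iff_mem_closure.1 ((genericPoint_specializes e).map g.continuous)
    rw [hc.closure_eq] at h
    exact (Scheme.Hom.comp_apply ι φ e).symm.trans h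
  have hcl : ∀ e : E, e ≠ η → IsClosed ({e} : Set E) := fun e he =>
    Goldman.isClosed_of_dim_le_one (le_of_eq hdim) he
  by_cases hxη : g η = x
  · refine (Set.finite_singleton η).subset fun e he => ?_
    by_contra hne
    refine hη ?_
    rw [hxη, ← show g e = x from he, ← Set.image_singleton]
    exact g.isClosedMap _ (hcl e hne)
  · rcases Set.eq_empty_or_nonempty (g ⁻¹' {x}) with h0 | ⟨e₀, he₀⟩
    · rw [h0]; exact Set.finite_empty
    have hsp : g η ⤳ x := (show g e₀ = x from he₀) ▸ (genericPoint_specializes e₀).map g.continuous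
    have hC : IsClosed (g ⁻¹' closure {x}) := isClosed_closure.preimage g.continuous
    refine (AlgSpDec.finite_of_isClosed_of_specializes ⟨g ⁻¹' closure {x}, hC⟩ fun e he e' _ hee' => ?_).subset
      (fun e he => subset_closure he)
    have hne : e ≠ η := fun h => hxη ((hsp.antisymm (specializes_iff_mem_closure.2 (h ▸ he))).eq)
    exact ((hcl e hne).closure_eq ▸ specializes_iff_mem_closure.1 hee' : e' ∈ ({e} : Set E)).symm

/-- A function vanishing on the reduced closed subscheme lies in its ideal. -/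
theorem strHom_mem_ker [IsReduced E] (𝔭 : PrimeSpectrum A) (hr : Set.range ι ⊆ q ⁻¹' {𝔭}) (W : Z.affineOpens) {r : A}
    (hr0 : r ∈ 𝔭.asIdeal) : strHom q W.1 r ∈ ι.ker.ideal W := by
  rw [FComplLib.ideal_ker, RingHom.mem_ker]
  refine eq_zero_of_basicOpen_eq_bot _ ?_
  rw [← Scheme.preimage_basicOpen]
  refine le_bot_iff.1 fun e he => ?_
  have hW : ι e ∈ W.1 := Z.basicOpen_le _ he
  refine absurd ((mem_basicOpen_strHom q W.2 hW r).1 he) (not_not.2 ?_)
  rwa [show q (ι e) = 𝔭 from hr ⟨e, rfl⟩]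

/-- An element of a generating ideal vanishes at the centre. -/
theorem mem_of_gen [Nonempty E] (𝔭 : PrimeSpectrum A) (hr : Set.range ι ⊆ q ⁻¹' {𝔭}) {P : Ideal A}
    (hgen : ∀ W : Z.affineOpens, ι.ker.ideal W = P.map (strHom q W.1)) {r : A} (hrP : r ∈ P) : r ∈ 𝔭.asIdeal := by
  obtain ⟨e⟩ := ‹Nonempty E›
  obtain ⟨W, hW, heW, -⟩ := exists_isAffineOpen_mem_and_subset (x := ι e) (U := ⊤) trivial
  rw [← show q (ι e) = 𝔭 from hr ⟨e, rfl⟩]
  by_contra h
  have h1 : ι e ∈ Z.basicOpen (strHom q W r) := (mem_basicOpen_strHom q hW heW r).2 h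
  have h2 : strHom q W r ∈ ι.ker.ideal ⟨W, hW⟩ := (hgen ⟨W, hW⟩).symm ▸ Ideal.mem_map_of_mem _ hrP
  rw [FComplLib.ideal_ker, RingHom.mem_ker] at h2
  have h3 : e ∈ ι ⁻¹ᵁ Z.basicOpen (strHom q W r) := h1
  rw [Scheme.preimage_basicOpen, h2, Scheme.basicOpen_zero] at h3
  exact h3

/-- Some point outside the curve has image strictly between the generic point and the centre. -/
theorem exists_between [IsIntegral Z] [IsLocallyNoetherian Z] [IsIntegral E] (hdim : topologicalKrullDim E = 1)
    (𝔭 : PrimeSpectrum A) (hr : Set.range ι = q ⁻¹' {𝔭}) (hinj : ∀ z z', q z = q z' → q z ≠ 𝔭 → z = z')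
    (hne : ∃ z : Z, z ∉ Set.range ι) (hpt : ∃ e : E, e ≠ genericPoint E) :
    ∃ z : Z, (q (genericPoint Z)).asIdeal < (q z).asIdeal ∧ (q z).asIdeal < 𝔭.asIdeal := by
  obtain ⟨e, he⟩ := hpt
  let x := ι e
  let ξ := ι (genericPoint E)
  have hξx : ξ ⤳ x := (genericPoint_specializes e).map ι.continuous
  let R := Z.presheaf.stalk x
  let P := (CDiv6.primeOf hξx).asIdeal
  have hηξ : genericPoint Z ≠ ξ := fun h => by
    obtain ⟨z, hz⟩ := hne
    refine hz (ι.isClosedEmbedding.isClosed_range.closure_subset ?_)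
    refine closure_mono ?_ (genericPoint_specializes z).mem_closure
    rw [Set.singleton_subset_iff]
    exact ⟨genericPoint E, h.symm⟩
  have hbot : (CDiv6.primeOf (genericPoint_specializes x)).asIdeal = ⊥ := by
    obtain ⟨y, hy, hy0⟩ := H23.StalkPrimes.exists_point (⊥ : Ideal R)
    exact le_bot_iff.1 (hy0 ▸ (H23.StalkPrimes.primeOf_le_iff hy (genericPoint_specializes x)).2 (genericPoint_specializes y))
  have hP0 : ⊥ < P := bot_lt_iff_ne_bot.2 fun h =>
    hηξ (H23.StalkPrimes.primeOf_inj (genericPoint_specializes x) hξx (hbot.trans h.symm))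
  have hPm : P ≠ maximalIdeal R := fun h => by
    have hle : (CDiv6.primeOf (specializes_refl x)).asIdeal ≤ P := h.symm ▸ le_maximalIdeal (CDiv6.primeOf (specializes_refl x)).isPrime.ne_top
    exact he (ι.isClosedEmbedding.injective (((H23.StalkPrimes.primeOf_le_iff hξx (specializes_refl x)).1 hle).antisymm hξx).eq)
  obtain ⟨t, ht, htP⟩ := SetLike.exists_of_lt
    (lt_of_le_of_ne (le_maximalIdeal (CDiv6.primeOf hξx).isPrime.ne_top) hPm)
  obtain ⟨Q, hQ⟩ := Ideal.nonempty_minimalPrimes
    (show (Ideal.span {t} : Ideal R) ≠ ⊤ from ne_top_of_le_ne_top (maximalIdeal.isMaximal R).ne_top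
      ((Ideal.span_singleton_le_iff_mem _).2 ht))
  haveI := hQ.isPrime
  have htQ : t ∈ Q := hQ.1.2 (Ideal.mem_span_singleton_self t)
  have hht : Q.height ≤ 1 := Ideal.height_le_one_of_isPrincipal_of_mem_minimalPrimes _ Q hQ
  obtain ⟨z, hz, hzQ⟩ := H23.StalkPrimes.exists_point Q
  have hzE : z ∉ Set.range ι := by
    rintro ⟨e', rfl⟩
    have hle : P ≤ Q := hzQ ▸ (H23.StalkPrimes.primeOf_le_iff hz hξx).2 ((genericPoint_specializes e').map ι.continuous)
    haveI : P.IsPrime := (CDiv6.primeOf hξx).isPrime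
    haveI : (⊥ : Ideal R).IsPrime := hbot ▸ (CDiv6.primeOf (genericPoint_specializes x)).isPrime
    have h1 := Ideal.height_add_one_le_of_lt_of_isPrime hP0
    have h2 := Ideal.height_add_one_le_of_lt_of_isPrime (lt_of_le_of_ne hle fun h => htP (show t ∈ P from h.symm ▸ htQ))
    have h3 : (1 : ℕ∞) + 1 ≤ 1 := le_trans (by
      refine le_trans ?_ h2
      gcongr
      exact le_trans (by simp) h1) hht
    exact absurd h3 (by decide)
  have hzη : z ≠ genericPoint Z := fun h => by
    subst h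
    have ht0 : t = 0 := by
      have : t ∈ (⊥ : Ideal R) := hbot ▸ hzQ ▸ htQ
      simpa using this
    exact htP (ht0 ▸ zero_mem _)
  have hqz : q z ≠ 𝔭 := fun h => hzE (hr.ge h)
  have hqx : q x = 𝔭 := hr.le ⟨e, rfl⟩
  have h1 : (q (genericPoint Z)).asIdeal ≤ (q z).asIdeal :=
    (PrimeSpectrum.le_iff_specializes _ _).2 ((genericPoint_specializes z).map q.continuous)
  have h2 : (q z).asIdeal ≤ 𝔭.asIdeal := hqx ▸ (PrimeSpectrum.le_iff_specializes _ _).2 (hz.map q.continuous)
  refine ⟨z, lt_of_le_of_ne h1 fun h => ?_, lt_of_le_of_ne h2 fun h => hqz (PrimeSpectrum.ext h)⟩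
  exact hzη ((hinj _ _ (PrimeSpectrum.ext h.symm) hqz))

/-- **The local contraction criterion.** -/
theorem local_contraction [IsNoetherianRing A] [IsIntegral Z] (hq : Function.Bijective q.appTop)
    (hE : Models.IsExcCurve ι) (𝔭 : PrimeSpectrum A) (hp : IsClosed ({(show ↥(Spec (CommRingCat.of A)) from 𝔭)} : Set ↥(Spec (CommRingCat.of A))))
    (hr : Set.range ι = q ⁻¹' {𝔭}) (hinj : ∀ z z', q z = q z' → q z ≠ 𝔭 → z = z') (a b : A)
    (hgen : ∀ W : Z.affineOpens, ι.ker.ideal W = (Ideal.span {a, b}).map (strHom q W.1))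
    (hna : ∃ e : E, ∀ W : Z.affineOpens, ι e ∈ W.1 → ι.ker.ideal W ≠ Ideal.span {strHom q W.1 a})
    (hnb : ∃ e : E, ∀ W : Z.affineOpens, ι e ∈ W.1 → ι.ker.ideal W ≠ Ideal.span {strHom q W.1 b})
    (hv : ∀ m : ℕ, Subsingleton (Coh.HH Z (ClSub.idealMod (ι.ker ^ m)) 1))
    (M : Z.Modules) (hMI : PicF.cl M * PicF.cl (ClSub.idealMod ι.ker) = 1) (hM : Subsingleton (Coh.HH Z M 1)) :
    IsRegularLocalRing (Localization.AtPrime 𝔭.asIdeal) ∧ ringKrullDim (Localization.AtPrime 𝔭.asIdeal) = 2 ∧
      BlowUp.IsBlowUp q (Scheme.IdealSheafData.vanishingIdeal (⟨_, hp⟩ : Closeds ↥(Spec (CommRingCat.of A)))) := by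
  obtain ⟨hint, -, hdim⟩ := curve_facts ι hE
  haveI := hint
  haveI : IsLocallyNoetherian Z := LocallyOfFiniteType.isLocallyNoetherian q
  let P : Ideal A := Ideal.span {a, b}
  obtain ⟨φ, hφ⟩ := exists_lift P (g := q)
    ((show (centre P).comap q = ι.ker from Scheme.IdealSheafData.ext (funext fun W =>
      (ideal_comap_centre _ q W).trans (hgen W).symm)).symm ▸ hE.1)
  haveI : IsSeparated (toBase P) := by
    haveI := isProper_toBase P (Submodule.fg_span (Set.toFinite _))
    infer_instance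
  haveI : IsProper φ := by
    haveI : IsProper (φ ≫ toBase P) := hφ.symm ▸ inferInstance
    exact IsProper.of_comp φ (toBase P)
  -- the curve meets both charts and lies in neither
  have hnot : ∀ c : P, (∃ e : E, ∀ W : Z.affineOpens, ι e ∈ W.1 → ι.ker.ideal W ≠ Ideal.span {strHom q W.1 c}) →
      ∃ e : E, φ (ι e) ∉ (chart P c).opensRange := by
    rintro c ⟨e, he⟩
    refine ⟨e, fun h => ?_⟩
    obtain ⟨W, hW, heW, hle⟩ := exists_isAffineOpen_mem_and_subset (U := φ ⁻¹ᵁ (chart P c).opensRange) (x := ι e) h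
    exact he ⟨W, hW⟩ heW (ideal_of_le_chart q φ hφ hgen c ⟨W, hW⟩ hle)
  obtain ⟨ea, hea⟩ := hnot (genA a b) hna
  obtain ⟨eb, heb⟩ := hnot (genB a b) hnb
  have hor : ∀ x : localBlowUp P, x ∈ (chart P (genA a b)).opensRange ∨ x ∈ (chart P (genB a b)).opensRange :=
    fun x => Opens.mem_sup.1 ((chart_cover a b).ge (trivial : x ∈ (⊤ : (localBlowUp P).Opens)))
  haveI : IsFinite φ := by
    haveI : LocallyQuasiFinite φ := LocallyQuasiFinite.of_finite_preimage_singleton φ
      (finite_fibre q ι hE 𝔭 hr hinj φ hφ fun x => (hor x).elim (fun h => ⟨ea, fun e => hea (e ▸ h)⟩)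
        (fun h => ⟨eb, fun e => heb (e ▸ h)⟩))
    exact IsFinite.of_isProper_of_locallyQuasiFinite φ
  let T : TwoGen q ι.ker a b := ⟨φ, hφ, hE.1, hgen, inferInstance⟩
  haveI : Nonempty ↥(T.U (genA a b)).toScheme := ⟨⟨ι eb, (hor _).resolve_right heb⟩⟩
  haveI : Nonempty ↥(T.U (genB a b)).toScheme := ⟨⟨ι ea, (hor _).resolve_left hea⟩⟩
  -- the centre
  haveI : Nonempty E := ⟨ea⟩
  have hP : P = 𝔭.asIdeal := by
    refine le_antisymm (fun r hrP => mem_of_gen q ι 𝔭 hr.le hgen hrP) fun r hr0 => ?_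
    have hdiv : ∀ c : P, Nonempty ↥(T.U c).toScheme → (_ : Nonempty ↥(T.U c).toScheme) →
        toFF q r / toFF q (c : A) ∈ regRing (T.U c) := fun c h _ => by
      have hmem := strHom_mem_ker q ι 𝔭 hr.le ⟨T.U c, T.isAffineOpen_U c⟩ hr0
      rw [T.ideal_U c, Ideal.mem_span_singleton'] at hmem
      obtain ⟨u, hu⟩ := hmem
      refine ⟨u, ?_⟩
      rw [eq_div_iff (T.toFF_ne_zero c h), ← germ_strHom q (T.U c) (c : A), ← map_mul, hu, germ_strHom]
    have h1 := T.mem_pow hq hv M hMI hM 1 r (by rw [pow_one]; exact hdiv _ inferInstance inferInstance)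
      (by rw [pow_one]; exact hdiv _ inferInstance inferInstance)
    rwa [pow_one] at h1
  -- the blow-up
  haveI : IsIso φ := T.isIso_φ hq hv M hMI hM
  have hbl : BlowUp.IsBlowUp q (Scheme.IdealSheafData.vanishingIdeal (⟨_, hp⟩ : Closeds ↥(Spec (CommRingCat.of A)))) := by
    have hc : Scheme.IdealSheafData.vanishingIdeal (⟨_, hp⟩ : Closeds ↥(Spec (CommRingCat.of A))) = centre P := by
      refine Scheme.IdealSheafData.ext_of_isAffine ?_
      rw [centre_top, Scheme.IdealSheafData.vanishingIdeal_ideal, hP]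
      ext f
      obtain ⟨g, rfl⟩ := (ConcreteCategory.bijective_of_isIso (Scheme.ΓSpecIso (CommRingCat.of A)).inv).2 f
      rw [PrimeSpectrum.mem_vanishingIdeal, Ideal.mem_map_iff_of_surjective _
        (ConcreteCategory.bijective_of_isIso (Scheme.ΓSpecIso (CommRingCat.of A)).inv).2]
      have hpre : ∀ p : Spec (Γ(Spec (CommRingCat.of A), ⊤)), (isAffineOpen_top _).fromSpec p =
          Spec.map (Scheme.ΓSpecIso (CommRingCat.of A)).inv p := fun p => by
        rw [IsAffineOpen.fromSpec_top, Scheme.isoSpec_Spec_inv]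
      constructor
      · intro h
        refine ⟨g, ?_, rfl⟩
        let p : Spec (Γ(Spec (CommRingCat.of A), ⊤)) := Spec.map (Scheme.ΓSpecIso (CommRingCat.of A)).hom (show ↥(Spec (CommRingCat.of A)) from 𝔭)
        have hp' : Spec.map (Scheme.ΓSpecIso (CommRingCat.of A)).inv p = 𝔭 := by
          show (Spec.map (Scheme.ΓSpecIso (CommRingCat.of A)).hom ≫ Spec.map (Scheme.ΓSpecIso (CommRingCat.of A)).inv) (show ↥(Spec (CommRingCat.of A)) from 𝔭) = _
          rw [← Spec.map_comp, Iso.inv_hom_id, Spec.map_id]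
          rfl
        rw [← hp']
        exact h p (show (isAffineOpen_top _).fromSpec p = 𝔭 from (hpre p).trans hp')
      · rintro ⟨g', hg', hgg⟩ p hp'
        rw [← hgg]
        have h := (hpre p).symm.trans (show (isAffineOpen_top _).fromSpec p = 𝔭 from hp')
        rw [← h] at hg'
        exact hg'
    rw [hc, show q = φ ≫ toBase P from hφ.symm]
    exact isBlowUp_iso_comp φ (isBlowUp_local P)
  -- regularity
  let L := Localization.AtPrime 𝔭.asIdeal
  have hspan : (maximalIdeal L).spanFinrank ≤ 2 := by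
    rw [← IsLocalization.AtPrime.map_eq_maximalIdeal 𝔭.asIdeal L, (congrArg (Ideal.map (algebraMap A L)) hP.symm).trans ((Ideal.map_span _ _).trans (congrArg Ideal.span (Set.image_pair _ _ _)))]
    refine le_trans (Submodule.spanFinrank_span_le_ncard_of_finite (R := L) (M := L) (Set.toFinite _)) ?_
    exact (Set.ncard_insert_le _ _).trans (by rw [Set.ncard_singleton])
  have hge : (2 : WithBot ℕ∞) ≤ ringKrullDim L := by
    obtain ⟨z, h1, h2⟩ := exists_between q ι hdim 𝔭 hr hinj (by
      by_contra hall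
      push Not at hall
      have hqa : strHom q (T.U (genA a b)) a = 0 := by
        refine eq_zero_of_basicOpen_eq_bot _ (le_bot_iff.1 fun z hz => ?_)
        have hzU := Z.basicOpen_le _ hz
        refine absurd ((mem_basicOpen_strHom q (T.isAffineOpen_U _) hzU a).1 hz) (not_not.2 ?_)
        rw [show q z = 𝔭 from hr.le (hall z)]
        exact hP ▸ (genA a b).2
      exact T.toFF_ne_zero (genA a b) inferInstance (by rw [← germ_strHom q (T.U (genA a b)), hqa, map_zero]))
      (by
        by_contra hall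
        push Not at hall
        exact heb ((hor _).elim (fun h => absurd ((hall ea).trans (hall eb).symm ▸ h) (fun h' => hea (by rwa [hall ea, ← hall eb]))) id))
    rw [IsLocalization.AtPrime.ringKrullDim_eq_height 𝔭.asIdeal L]
    have e1 := Ideal.height_add_one_le_of_lt_of_isPrime h1
    have e2 := Ideal.height_add_one_le_of_lt_of_isPrime h2
    have : (2 : ℕ∞) ≤ 𝔭.asIdeal.height := by
      refine le_trans ?_ e2
      refine le_trans ?_ (add_le_add_left (le_trans le_add_self e1) 1)
      norm_num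
    exact (show ((2 : ℕ∞) : WithBot ℕ∞) ≤ ↑𝔭.asIdeal.height from WithBot.coe_le_coe.2 this)
  haveI hreg : IsRegularLocalRing L := IsRegularLocalRing.of_spanFinrank_maximalIdeal_le L
    (le_trans (by exact_mod_cast hspan) hge)
  refine ⟨hreg, le_antisymm ?_ hge, hbl⟩
  rw [← IsRegularLocalRing.spanFinrank_maximalIdeal (R := L)]
  exact_mod_cast hspan

end Groth.Agent.Castelnuovo
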