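import Groth.Agent.Castelnuovo.Sections
import Groth.Agent.S7309
import Groth.Agent.S7325
import Groth.Agent.S3572
import Groth.Agent.Lib.AmpleEmbed
import Groth.Agent.AmpleX.Generated
import Groth.Agent.AmpleX.Pow
import Groth.Agent.AmpleVan.Mul
import Groth.Agent.NormX.NormalAmple
import Groth.Agent.ASBunLib.TwistAut
import Groth.Agent.IntNum.CurveAmple

/-!
# Contraction of an exceptional curve on a polarized scheme
-/

noncomputable section

set_option linter.style.haveILetI false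
set_option linter.unusedSectionVars false
set_option autoImplicit false
set_option backward.isDefEq.respectTransparency false
set_option backward.isDefEq.respectTransparency.types false
set_option maxHeartbeats 1000000

universe u

open CategoryTheory CategoryTheory.Limits AlgebraicGeometry TopologicalSpace Opposite

namespace Groth.Agent.Castelnuovo

open Groth.Agent
open scoped Groth.Agent.H23.PicMul

variable {E X : Scheme.{u}} (ι : E ⟶ X) [IsClosedImmersion ι]

theorem trivBasic_locus_eq {L : X.Modules} (s : Γ(L, ⊤)) : H23.TrivBasic.locus s = AmpleX.locus s := by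
  rw [H23.TrivBasic.locus, AmpleX.genLocus_eq_locus, InvX.one_ofSect]

/-- An inverse of the ideal of a divisor has a section which is a frame off the divisor. -/
theorem exists_section_off (I : X.IdealSheafData) (hI : BlowUp.IsEffCartierIdeal I) {D : X.Modules}
    (hD : PicF.IsInvertible D) (hID : PicF.cl (ClSub.idealMod I) * PicF.cl D = 1) :
    ∃ σ : Γ(D, ⊤), ∀ z : X, z ∉ (I.support : Set X) → z ∈ AmpleX.locus σ := by
  obtain ⟨e⟩ := H23.PicMul.cl_eq_iff.1 (show PicF.cl (Coh.structureModule X) = PicF.cl (CohB1.tensorMod (ClSub.idealMod I) D) by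
    rw [H23.PicMul.cl_tensor, hID, H23.PicMul.one_def])
  let η : Γ(CohB1.tensorMod (ClSub.idealMod I) D, ⊤) := e.hom.app ⊤ (show Γ(Coh.structureModule X, ⊤) from (1 : Γ(X, ⊤)))
  have hη : InvX.IsFrame η := (InvX.isFrame_one ⊤).map_iso e
  let τ : Γ(CohB1.tensorMod (Coh.structureModule X) D, ⊤) := ((AmpleVan.tw D).map (ClSub.idealModι I)).app ⊤ η
  have hτ : ∀ z : X, z ∉ (I.support : Set X) → z ∈ AmpleX.locus τ := by
    intro z hz
    have hI' := (S8914.result I).2 hI
    obtain ⟨U, hzU, k₀, δ₀, hk₀, hδ₀⟩ := InvX.exists_frame₂ hI' hD z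
    obtain ⟨V, hV, hzV, hVle⟩ := exists_isAffineOpen_mem_and_subset (U := U ⊓ I.support.compl) (x := z) ⟨hzU, hz⟩
    have hVU : V ≤ U := hVle.trans inf_le_left
    have htop : I.ideal ⟨V, hV⟩ = Ideal.span {(1 : Γ(X, V))} := by
      rw [Ideal.span_singleton_one]
      by_contra hne
      obtain ⟨m, hm, hle⟩ := Ideal.exists_le_maximal _ hne
      let p : PrimeSpectrum Γ(X, V) := ⟨m, hm.isPrime⟩
      have hpV : hV.fromSpec p ∈ V := hV.range_fromSpec.le ⟨p, rfl⟩
      have hps : hV.fromSpec p ∈ I.support := by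
        rw [Scheme.IdealSheafData.mem_support_iff_of_mem (U := ⟨V, hV⟩) hpV, Scheme.mem_zeroLocus_iff]
        intro f hf hfm
        have h' : p ∈ hV.fromSpec ⁻¹ᵁ X.basicOpen f := hfm
        rw [hV.fromSpec_preimage_basicOpen] at h'
        exact h' (hle hf)
      exact (hVle.trans inf_le_right hpV) hps
    obtain ⟨k, hk⟩ := OmegaLib.exists_of_mem I ⟨V, hV⟩ (1 : Γ(X, V)) (htop ▸ Ideal.mem_span_singleton_self _)
    have hkf : InvX.IsFrame k := CurveAlgEqLib.isFrame_of_span I ⟨V, hV⟩ (hk₀.res hVU) (by rw [hk]; exact htop)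
    have hδ := hδ₀.res hVU
    obtain ⟨g, hg⟩ := (InvX.isFrame_tmul hkf hδ).exists_coord le_rfl (AModX.res _ (le_top : V ≤ ⊤) η)
    rw [AModX.res_self] at hg
    obtain ⟨g', hg'⟩ := (hη.res (le_top : V ≤ ⊤)).exists_coord le_rfl (InvX.tmul k (AModX.res D hVU δ₀))
    rw [AModX.res_self] at hg'
    have hu : IsUnit g := by
      refine isUnit_iff_exists_inv'.2 ⟨g', (InvX.isFrame_tmul hkf hδ).coord_unique le_rfl ?_⟩
      rw [AModX.res_self, mul_smul, ← hg, ← hg', one_smul]
    refine AmpleX.le_locus τ le_top ?_ hzV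
    have hι : (ClSub.idealModι I).app V k = (show Γ(Coh.structureModule X, V) from (1 : Γ(X, V))) :=
      (IdealSub.idealModι_app' I V k).trans hk
    have hres : AModX.res _ (le_top : V ≤ ⊤) τ = g • InvX.tmul (show Γ(Coh.structureModule X, V) from (1 : Γ(X, V))) (AModX.res D hVU δ₀) := by
      show AModX.res _ (le_top : V ≤ ⊤) (((AmpleVan.tw D).map (ClSub.idealModι I)).app ⊤ η) = _
      refine (AModX.app_res ((AmpleVan.tw D).map (ClSub.idealModι I)) (le_top : V ≤ ⊤) η).symm.trans ?_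
      refine (congrArg (((AmpleVan.tw D).map (ClSub.idealModι I)).app V) hg).trans ?_
      refine (Scheme.Modules.Hom.app_smul _ _ _).trans (congrArg (g • ·) ?_)
      rw [AmpleVan.map_tmul_left, hι]
    rw [hres]
    exact InvX.IsFrame.isUnit_smul (InvX.isFrame_tmul (InvX.isFrame_one V) hδ) hu
  obtain ⟨σ, hσ⟩ := AmpleX.exists_locus_cl (show PicF.cl (CohB1.tensorMod (Coh.structureModule X) D) = PicF.cl D by
    rw [H23.PicMul.cl_tensor, ← H23.PicMul.one_def, one_mul]) τ
  exact ⟨σ, fun z hz => hσ ▸ hτ z hz⟩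

/-- An ample module has positive degree on the projective line. -/
theorem exists_degree_pos [IsNoetherian X] {L : X.Modules} (hL : CohB1.IsAmple L) {k : Type u} [Field k]
    (e : CohB1.ProjSpace 1 k ≅ E) :
    ∃ d : ℕ, 0 < d ∧ PicF.pullCl (e.hom ≫ ι) (PicF.cl L) = PicF.cl (Twist.twistProjSpace 1 k (d : ℤ)) := by
  let P : Scheme.{u} := CohB1.ProjSpace 1 k
  let f : P ⟶ X := e.hom ≫ ι
  haveI := P1Split.isNoetherian k
  haveI := P1Split.isIntegral k
  have hamp : CohB1.IsAmple ((Scheme.Modules.pullback f).obj L) :=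
    AmpleVan.isAmple_pullback_of_isEmbedding f f.isEmbedding hL
  obtain ⟨d, hd⟩ := ASBunLib.exists_twist_cl 1 k hamp.1
  haveI : IsProper (CohB1.ProjSpace.toSpec 1 k) := PnCoh.Chow.isProper_toSpec 1 k
  haveI : IsProper (P ↘ Spec (CommRingCat.of k)) := inferInstanceAs (IsProper (CohB1.ProjSpace.toSpec 1 k))
  have h := IntNum.deg_pos_of_isAmple (k := k) (𝟙 P) (P1Split.dim_eq k) hamp
  obtain ⟨w⟩ := (PicGrp.cl_eq_cl_iff _ _).1 hd
  have hpos : 0 < d := by
    have h' : (@Curv2.deg k _ P ⟨𝟙 P ≫ (P ↘ Spec (CommRingCat.of k))⟩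
        ((Scheme.Modules.pullback (𝟙 P)).obj ((Scheme.Modules.pullback f).obj L)) 1) =
        Curv2.deg k P (Twist.twistProjSpace 1 k d) 1 := by
      let φ := (Scheme.Modules.pullbackId P).app ((Scheme.Modules.pullback f).obj L) ≪≫ w
      simp only [Curv2.deg, Category.id_comp]
      rw [CurveCohLib.euler_congr (k := k) φ]
    rw [h', P1Split.deg_T] at h
    exact h
  refine ⟨d.toNat, by omega, ?_⟩
  rw [Int.toNat_of_nonneg hpos.le]
  exact hd

/-- **Contraction on a polarized scheme.** -/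
theorem exists_contraction_polarized {R : Type u} [CommRing R] [IsNoetherianRing R]
    (f : X ⟶ Spec (CommRingCat.of R)) [IsProper f] (L : X.Modules) (hL : CohB1.IsAmple L)
    (hE : Models.IsExcCurve ι) (M : X.Modules) (hM : ClSub.IsInverseOf M (ClSub.idealMod ι.ker)) :
    ∃ (X' : Scheme.{u}) (b : X ⟶ X') (g : X' ⟶ Spec (CommRingCat.of R)), Models.IsContractionOf ι b ∧ b ≫ g = f ∧
      IsProper g ∧ ∃ (n : ℕ) (L' : X'.Modules), CohB1.IsAmple L' ∧
        Nonempty ((Scheme.Modules.pullback b).obj L' ≅ CohB1.tensorMod L (CohB1.tensorPow M n)) := by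
  haveI : IsLocallyNoetherian X := LocallyOfFiniteType.isLocallyNoetherian f
  haveI : CompactSpace X := QuasiCompact.compactSpace_of_compactSpace f
  haveI : IsNoetherian X := { __ := ‹IsLocallyNoetherian X›, __ := ‹CompactSpace X› }
  letI : X.Over (Spec (CommRingCat.of R)) := ⟨f⟩
  haveI : IsProper (X ↘ Spec (CommRingCat.of R)) := ‹IsProper f›
  haveI : X.IsSeparated := AmpleVan.isSeparated_of_proper (A := R)
  obtain ⟨hint, -, hdimE⟩ := curve_facts ι hE
  haveI := hint
  obtain ⟨hC, k, hk, e, -⟩ := id hE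
  have hI : PicF.IsInvertible (ClSub.idealMod ι.ker) := (S8914.result ι.ker).2 hC
  have hMI : PicF.cl M * PicF.cl (ClSub.idealMod ι.ker) = 1 := (PicGrp.cl_eq_cl_iff _ _).2 hM
  have hMinv : PicF.IsInvertible M := PointBlowUp.isInvertible_of_cl_mul hI hMI
  obtain ⟨d, hd0, hd⟩ := exists_degree_pos ι hL e
  have hfM : PicF.pullCl (e.hom ≫ ι) (PicF.cl M) = PicF.cl (Twist.twistProjSpace 1 k (-1)) := by
    refine (PnPic.isUnit_cl_twist 1 k 1).mul_right_cancel ?_
    rw [PnPic.cl_twistProjSpace_add]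
    conv_lhs => rw [← PointBlowUp.pullCl_exc ι hE e, ← H23.PicMul.pullCl_mul, hMI, H23.PicMul.pullCl_one]
    exact (PnPic.cl_twistProjSpace_zero 1 k).symm
  -- the twist trivial on the curve
  let L₁ := CohB1.tensorMod L (CohB1.tensorPow M d)
  have hL₁ : PicF.IsInvertible L₁ := InvX.isInvertible_tensorMod hL.1 (InvX.isInvertible_tensorPow hMinv d)
  have htriv : PicF.pullCl ι (PicF.cl L₁) = 1 := by
    have h1 : PicF.pullCl (e.hom ≫ ι) (PicF.cl L₁) = 1 := by
      rw [H23.PicMul.cl_tensor, H23.PicMul.cl_tensorPow, H23.PicMul.pullCl_mul, pullCl_pow, hd, hfM]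
      have : ∀ m : ℕ, PicF.cl (Twist.twistProjSpace 1 k (-1)) ^ m = PicF.cl (Twist.twistProjSpace 1 k (-(m : ℤ))) := fun m => by
        induction m with
        | zero => rw [pow_zero]; exact (PnPic.cl_twistProjSpace_zero 1 k).symm
        | succ m ih => rw [pow_succ, ih, PnPic.cl_twistProjSpace_add]; push_cast; ring_nf
      rw [this, PnPic.cl_twistProjSpace_add, add_neg_cancel, PnPic.cl_twistProjSpace_zero]
    have h2 := congrArg (PicF.pullCl e.inv) h1
    rw [PicClLib.pullCl_comp e.inv (e.hom ≫ ι), e.inv_hom_id_assoc, H23.PicMul.pullCl_one] at h2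
    exact h2
  -- sections of a high power with affine loci
  obtain ⟨a, ha, κ, _, σ, hσaff, -, hσcov⟩ := AmpleX.exists_cover_genLocus hL
  obtain ⟨d₀, hd₀⟩ := AmpleVan.exists_vanishing (A := R) hL (QCoh.isCoh_structureModule' (X := X))
  let N := a * (d₀ + 1)
  have hN0 : 0 < N := Nat.mul_pos ha (Nat.succ_pos _)
  have hdN : d₀ ≤ N := le_trans (Nat.le_succ _) (Nat.le_mul_of_pos_left _ ha)
  obtain ⟨σ₀, hσ₀⟩ := exists_section_off ι.ker hC hMinv (by rw [mul_comm]; exact hMI)
  let B := CohB1.tensorPow L₁ N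
  have hB : PicF.IsInvertible B := InvX.isInvertible_tensorPow hL₁ N
  have hclB : PicF.cl B = PicF.cl L ^ N * PicF.cl M ^ (d * N) := by
    rw [H23.PicMul.cl_tensorPow, H23.PicMul.cl_tensor, H23.PicMul.cl_tensorPow, mul_pow, ← pow_mul]
  have hu : ∀ j : κ, ∃ u : Γ(B, ⊤), IsAffineOpen (AmpleX.locus u) ∧
      ∀ z : X, z ∉ Set.range ι → z ∈ CohB1.genLocus _ (σ j) → z ∈ AmpleX.locus u := by
    intro j
    let s := AmpleX.powElt (InvX.one (σ j)) (d₀ + 1)
    have hs : AmpleX.locus s = CohB1.genLocus _ (σ j) := by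
      rw [AmpleX.genLocus_eq_locus]
      exact AmpleX.locus_powElt (InvX.isInvertible_tensorPow hL.1 a) _ d₀
    let t := AmpleX.powElt σ₀ (d * N)
    obtain ⟨u, hu⟩ := AmpleX.exists_locus_cl (show PicF.cl (CohB1.tensorMod (CohB1.tensorPow (CohB1.tensorPow L a) (d₀ + 1))
        (CohB1.tensorPow M (d * N))) = PicF.cl B by
      rw [hclB, H23.PicMul.cl_tensor, H23.PicMul.cl_tensorPow, H23.PicMul.cl_tensorPow, H23.PicMul.cl_tensorPow, ← pow_mul])
      (InvX.tmul s t)
    have hl : AmpleX.locus (InvX.tmul s t) = AmpleX.locus s ⊓ AmpleX.locus t :=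
      AmpleX.locus_tmul (InvX.isInvertible_tensorPow (InvX.isInvertible_tensorPow hL.1 a) _)
        (InvX.isInvertible_tensorPow hMinv _) s t
    refine ⟨u, ?_, fun z hzE hz => ?_⟩
    · rw [hu, hl]
      exact AmpleX.isAffineOpen_inf_locus (InvX.isInvertible_tensorPow hMinv _) (hs ▸ hσaff j) t le_top
    · rw [hu, hl]
      refine ⟨hs ▸ hz, ?_⟩
      obtain ⟨m, hm⟩ := Nat.exists_eq_succ_of_ne_zero (Nat.mul_pos hd0 hN0).ne'
      have hz' : z ∈ AmpleX.locus σ₀ := hσ₀ z (by
        rw [Scheme.Hom.support_ker, ι.isClosedEmbedding.isClosed_range.closure_eq]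
        exact hzE)
      show z ∈ AmpleX.locus (AmpleX.powElt σ₀ (d * N))
      rw [hm, AmpleX.locus_powElt hMinv σ₀ m]
      exact hz'
  choose u huaff hucov using hu
  -- a section without zeros on the curve
  have h1 : Subsingleton (Coh.HH X (CohB1.tensorMod (ClSub.idealMod ι.ker) B) 1) := by
    obtain ⟨m, hm⟩ := Nat.exists_eq_succ_of_ne_zero (Nat.mul_pos hd0 hN0).ne'
    have hLN : PicF.pullCl (e.hom ≫ ι) (PicF.cl (CohB1.tensorPow L N)) = PicF.cl (Twist.twistProjSpace 1 k ((d * N : ℕ) : ℤ)) := by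
      rw [H23.PicMul.cl_tensorPow, pullCl_pow, hd, ← cl_twist_pow, ← cl_twist_pow, ← pow_mul]
    have hv : Subsingleton (Coh.HH X (CohB1.tensorPow L N) 1) := by
      obtain ⟨φ⟩ := H23.PicMul.cl_eq_iff.1 (show PicF.cl (CohB1.tensorMod (Coh.structureModule X) (CohB1.tensorPow L N)) =
          PicF.cl (CohB1.tensorPow L N) by rw [H23.PicMul.cl_tensor, ← H23.PicMul.one_def, one_mul])
      exact QCoh.subsingleton_HH_of_iso φ 1 (hd₀ N hdN 0)
    obtain ⟨φ⟩ := H23.PicMul.cl_eq_iff.1 (show PicF.cl (CohB1.tensorMod (CohB1.tensorPow L N) (CohB1.tensorPow M m)) =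
        PicF.cl (CohB1.tensorMod (ClSub.idealMod ι.ker) B) by
      rw [H23.PicMul.cl_tensor, H23.PicMul.cl_tensor, H23.PicMul.cl_tensorPow, H23.PicMul.cl_tensorPow, hclB,
        hm, pow_succ (PicF.cl M), mul_left_comm (PicF.cl (ClSub.idealMod ι.ker)), mul_left_comm (PicF.cl (ClSub.idealMod ι.ker)),
        mul_comm (PicF.cl (ClSub.idealMod ι.ker)), hMI, mul_one])
    exact QCoh.subsingleton_HH_of_iso φ 1 (S7339.result ι hE M hM _ (InvX.isInvertible_tensorPow hL.1 N) k e (d * N)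
      ((PicGrp.cl_eq_cl_iff _ _).1 hLN) hv m (by omega))
  have htrivB : H23.TrivBasic.Triv ((Scheme.Modules.pullback ι).obj B) :=
    H23.PicMul.cl_eq_iff.1 (show PicF.pullCl ι (PicF.cl B) = PicF.cl (Coh.structureModule E) by
      rw [H23.PicMul.cl_tensorPow, pullCl_pow, htriv, one_pow, H23.PicMul.one_def])
  obtain ⟨t₀, ht₀⟩ := htrivB.exists_frame
  obtain ⟨t, ht⟩ := exists_locus_lift ι hB h1 t₀
  have htE : ∀ x : E, ι x ∈ AmpleX.locus t := fun x => by
    have : x ∈ ι ⁻¹ᵁ AmpleX.locus t := by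
      rw [ht]
      exact AmpleX.le_locus t₀ le_rfl (by rwa [AModX.res_self]) (show x ∈ (⊤ : E.Opens) from trivial)
    exact this
  -- the morphism to projective space
  let r' := Fintype.card κ
  let ek := Fintype.equivFin κ
  let s : Fin (r' + 1) → Γ(B, ⊤) := Fin.cons t (fun i => u (ek.symm i))
  have hcov : ∀ x, ∃ i, x ∈ AmpleX.locus (s i) := fun x => by
    by_cases hx : x ∈ Set.range ι
    · obtain ⟨y, rfl⟩ := hx
      exact ⟨0, htE y⟩
    · obtain ⟨j, hj⟩ := hσcov x
      exact ⟨(ek j).succ, by simpa [s] using hucov j x hx hj⟩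
  have hgen : ProjUP.GeneratedBy B s := ProjUPX.generatedBy_of_frames _ fun x => by
    obtain ⟨i, hi⟩ := hcov x
    exact ⟨i, AmpleX.locus (s i), hi, AmpleX.isFrame_res_of_le (s i) le_rfl⟩
  obtain ⟨r, hr, τ, hτ⟩ := S3572.result r' f B hB s hgen
  let D : Fin (r' + 1) → (CohB1.ProjSpace r' R).Opens := fun i =>
    Proj.basicOpen (CohB1.polyGrading r' R) (MvPolynomial.X i)
  have hD : ∀ i, IsAffineOpen (D i) := fun i => Proj.isAffineOpen_basicOpen _ _ (ProjPt.X_mem _) one_pos
  have hpre : ∀ i, r ⁻¹ᵁ D i = AmpleX.locus (s i) := fun i => by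
    rw [← trivBasic_locus_eq]
    exact AmpleEmbed.preimage_chart r τ i (hτ i)
  haveI : IsProper (CohB1.ProjSpace.toSpec r' R) := PnCoh.Chow.isProper_toSpec r' R
  haveI : IsProper r := by
    haveI : IsProper (r ≫ CohB1.ProjSpace.toSpec r' R) := hr.symm ▸ inferInstance
    exact IsProper.of_comp r (CohB1.ProjSpace.toSpec r' R)
  haveI : IsLocallyNoetherian (CohB1.ProjSpace r' R : Scheme.{u}) :=
    LocallyOfFiniteType.isLocallyNoetherian (CohB1.ProjSpace.toSpec r' R)
  haveI : CompactSpace (CohB1.ProjSpace r' R : Scheme.{u}) :=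
    QuasiCompact.compactSpace_of_compactSpace (CohB1.ProjSpace.toSpec r' R)
  haveI : IsNoetherian (CohB1.ProjSpace r' R : Scheme.{u}) :=
    { __ := ‹IsLocallyNoetherian (CohB1.ProjSpace r' R : Scheme.{u})›, __ := ‹CompactSpace (CohB1.ProjSpace r' R : Scheme.{u})› }
  -- the curve goes to a point
  let η := genericPoint E
  have hpt : Set.range ((ι ≫ r).base : E → CohB1.ProjSpace r' R) = {(ι ≫ r) η} := by
    have hle : Set.range (ι ≫ r) ⊆ Set.range (D 0).ι := by
      rw [Scheme.Opens.range_ι]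
      rintro _ ⟨x, rfl⟩
      exact ((hpre 0).ge (htE x) : _)
    let g₀ := IsOpenImmersion.lift (D 0).ι (ι ≫ r) hle
    haveI : IsAffine (D 0).toScheme := hD 0
    have hfield : IsField Γ(E, ⊤) := by
      haveI := P1Split.isIntegral k
      haveI : IsProper (CohB1.ProjSpace.toSpec 1 k) := PnCoh.Chow.isProper_toSpec 1 k
      exact MulEquiv.isField (isField_of_universallyClosed k (CohB1.ProjSpace.toSpec 1 k))
        (asIso e.hom.appTop).commRingCatIsoToRingEquiv.toMulEquiv
    haveI : Subsingleton (Spec Γ(E, ⊤)) := by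
      letI := hfield.toField
      exact inferInstanceAs (Subsingleton (PrimeSpectrum Γ(E, ⊤)))
    refine Set.eq_singleton_iff_unique_mem.2 ⟨⟨η, rfl⟩, ?_⟩
    rintro _ ⟨x, rfl⟩
    have key : ∀ x, (ι ≫ r) x = (D 0).ι ((D 0).toScheme.isoSpec.inv (Spec.map g₀.appTop (E.toSpecΓ x))) := fun x => by
      have h0 : g₀ = E.toSpecΓ ≫ Spec.map g₀.appTop ≫ (D 0).toScheme.isoSpec.inv := by
        rw [← Category.assoc, ← Scheme.toSpecΓ_naturality, Category.assoc, Scheme.toSpecΓ_isoSpec_inv, Category.comp_id]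
      have h1 : ι ≫ r = (E.toSpecΓ ≫ Spec.map g₀.appTop ≫ (D 0).toScheme.isoSpec.inv) ≫ (D 0).ι := by
        rw [← h0, IsOpenImmersion.lift_fac]
      rw [h1]
      rfl
    rw [key, key, Subsingleton.elim (E.toSpecΓ x) (E.toSpecΓ η)]
  -- quasi-finite off the curve
  have hqf : LocallyQuasiFinite (Scheme.Opens.ι (X := X) ι.ker.support.compl ≫ r) := by
    let O : X.Opens := ι.ker.support.compl
    haveI : LocallyOfFiniteType (O.ι ≫ r) := inferInstance
    haveI : QuasiCompact (O.ι ≫ r) := inferInstance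
    refine LocallyQuasiFinite.of_finite_preimage_singleton (O.ι ≫ r) fun y => ?_
    have hout : ∀ z : X, z ∉ Set.range ι → ∃ j : Fin r', z ∈ r ⁻¹ᵁ D j.succ := fun z hz => by
      obtain ⟨j, hj⟩ := hσcov z
      refine ⟨ek j, ?_⟩
      rw [hpre]
      simpa [s] using hucov j z hz hj
    by_cases hy : ∃ j : Fin r', y ∈ D j.succ
    swap
    · refine Set.finite_empty.subset fun z hz => hy ?_
      obtain ⟨j, hj⟩ := hout z.1 (by
        have h := z.2
        intro hr'
        exact h (by rw [SetLike.mem_coe, ← SetLike.mem_coe, Scheme.Hom.support_ker, ι.isClosedEmbedding.isClosed_range.closure_eq]; exact hr'))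
      exact ⟨j, (show r z.1 = y from hz) ▸ hj⟩
    obtain ⟨j, hyj⟩ := hy
    haveI : IsAffine (D j.succ).toScheme := hD _
    haveI : IsAffine (r ⁻¹ᵁ D j.succ).toScheme := by
      rw [hpre]
      exact (show IsAffineOpen (AmpleX.locus (s j.succ)) by simpa [s] using huaff (ek.symm j))
    haveI : IsAffineHom (r ∣_ D j.succ) := inferInstance
    haveI : IsFinite (r ∣_ D j.succ) := IsFinite.iff_isProper_and_isAffineHom.2 ⟨inferInstance, inferInstance⟩
    have hfin := IsFinite.finite_preimage_singleton (r ∣_ D j.succ) ⟨y, hyj⟩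
    refine Set.Finite.of_finite_image ?_ O.ι.isOpenEmbedding.injective.injOn
    refine (hfin.image (r ⁻¹ᵁ D j.succ).ι).subset ?_
    rintro _ ⟨z, hz, rfl⟩
    have hzy : r (O.ι z) = y := hz
    refine ⟨⟨O.ι z, show r (O.ι z) ∈ D j.succ from hzy ▸ hyj⟩, ?_, rfl⟩
    refine (D j.succ).ι.isOpenEmbedding.injective ?_
    show (D j.succ).ι ((r ∣_ D j.succ) _) = _
    rw [← Scheme.Hom.comp_apply, morphismRestrict_ι, Scheme.Hom.comp_apply]
    exact hzy
  obtain ⟨X', b, g, hb, hbg, hgfin, -⟩ := S7309.result ι hE r ((ι ≫ r) η) hpt hqf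
  haveI := hgfin
  obtain ⟨hinj, himg⟩ := S7325.result ι hE b hb
  obtain ⟨L', hL', ⟨φ⟩⟩ := (himg L₁ hL₁).2 (H23.PicMul.cl_eq_iff.1 (by
    show PicF.pullCl ι (PicF.cl L₁) = _
    rw [htriv, H23.PicMul.one_def]))
  refine ⟨X', b, g ≫ CohB1.ProjSpace.toSpec r' R, hb, by rw [← Category.assoc, hbg, hr], inferInstance,
    d, L', ?_, ⟨φ⟩⟩
  -- ampleness
  let T := Twist.twistProjSpace r' R 1
  letI := MvPolynomial.gradedAlgebra (σ := Fin (r' + 1)) (R := R)
  have hT : CohB1.IsAmple T := by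
    haveI : CompactSpace (Proj (CohB1.polyGrading r' R)) := inferInstanceAs (CompactSpace (CohB1.ProjSpace r' R : Scheme.{u}))
    refine TwistCover.isAmple_of_cover (n := 1) Nat.one_pos (top_le_iff.1 ((AmpleEmbed.iSup_basicOpen_X r' R).ge.trans (iSup_le fun j => ?_)))
    exact le_iSup_of_le ⟨MvPolynomial.X j, ProjPt.X_mem j⟩ le_rfl
  have hgT : CohB1.IsAmple ((Scheme.Modules.pullback g).obj T) := NormX.isAmple_pullback_affine g hT
  refine AmpleX.isAmple_of_tensorPow hL' hN0 (AmpleX.isAmple_of_iso (hinj _ _ hgT.1 (InvX.isInvertible_tensorPow hL' N) ?_).some hgT)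
  refine H23.PicMul.cl_eq_iff.1 ?_
  show PicF.pullCl b (PicF.pullCl g (PicF.cl T)) = PicF.pullCl b (PicF.cl (CohB1.tensorPow L' N))
  rw [PicClLib.pullCl_comp, hbg, H23.PicMul.cl_tensorPow, pullCl_pow,
    show PicF.pullCl b (PicF.cl L') = PicF.cl L₁ from H23.PicMul.cl_eq_iff.2 ⟨φ⟩, ← H23.PicMul.cl_tensorPow]
  exact H23.PicMul.cl_eq_iff.2 ⟨τ⟩

end Groth.Agent.Castelnuovo
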