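import Groth.Agent.Castelnuovo.Window
import Groth.Agent.Castelnuovo.Lift
import Groth.Agent.AmpleX.Sect
import Groth.Agent.Lib.TwistCover
import Groth.Agent.PointBlowUp.ExcTwist
import Groth.Agent.AmpleVan.Uniform
import Groth.Agent.AmpleX.RelAffine
import Groth.Agent.S7339

/-!
# Vanishing and two generating sections near an exceptional curve
-/

noncomputable section

set_option linter.style.haveILetI false
set_option linter.unusedSectionVars false
set_option autoImplicit false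
set_option backward.isDefEq.respectTransparency false
set_option backward.isDefEq.respectTransparency.types false
set_option maxHeartbeats 1000000

universe u

open CategoryTheory CategoryTheory.Limits AlgebraicGeometry TopologicalSpace Opposite

namespace Groth.Agent.Castelnuovo

open Groth.Agent Groth.Agent.BlowUpLib
open scoped Groth.Agent.H23.PicMul

theorem res_strHom_top {A : Type u} [CommRing A] {Z : Scheme.{u}} (q : Z ⟶ Spec (CommRingCat.of A))
    {U V : Z.Opens} (h : V ≤ U) (r : A) : Z.presheaf.map (homOfLE h).op (strHom q U r) = strHom q V r := by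
  rw [strHom, strHom, ← Scheme.Hom.appLE_map q (le_top : U ≤ q ⁻¹ᵁ ⊤) (homOfLE h).op]
  rfl

theorem bijective_strHom_top {A : Type u} [CommRing A] {Z : Scheme.{u}} (q : Z ⟶ Spec (CommRingCat.of A))
    (hq : Function.Bijective q.appTop) : Function.Bijective (strHom q (⊤ : Z.Opens)) := by
  have e : q.appLE ⊤ ⊤ le_top = q.appTop := (q.app_eq_appLE).symm
  rw [strHom, e]
  exact hq.comp (ConcreteCategory.bijective_of_isIso (Scheme.ΓSpecIso (CommRingCat.of A)).inv)

theorem cl_twist_pow (k : Type u) [Field k] (m : ℕ) :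
    PicF.cl (Twist.twistProjSpace 1 k 1) ^ m = PicF.cl (Twist.twistProjSpace 1 k (m : ℤ)) := by
  induction m with
  | zero => rw [pow_zero]; exact (PnPic.cl_twistProjSpace_zero 1 k).symm
  | succ m ih => rw [pow_succ, ih, PnPic.cl_twistProjSpace_add]; norm_num

theorem pullCl_pow {X Y : Scheme.{u}} (f : Y ⟶ X) (x : PicF.Cl X) (m : ℕ) :
    PicF.pullCl f (x ^ m) = PicF.pullCl f x ^ m := by
  induction m with
  | zero => rw [pow_zero, pow_zero, H23.PicMul.pullCl_one]
  | succ m ih => rw [pow_succ, pow_succ, H23.PicMul.pullCl_mul, ih]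

theorem cl_idealMod_pow' {X : Scheme.{u}} (I : X.IdealSheafData) (hI : BlowUp.IsEffCartierIdeal I) :
    ∀ n : ℕ, PicF.cl (ClSub.idealMod (I ^ n)) = PicF.cl (ClSub.idealMod I) ^ n
  | n + 1 => (DepthTwist.cl_idealMod_pow I ((S8914.result I).2 hI) n).2
  | 0 => by
    rw [pow_zero, pow_zero, H23.PicMul.one_def]
    refine H23.PicMul.cl_eq_iff.2 (SmoothMinimal.triv_idealMod 1 ?_ 1 fun U => ?_)
    · intro x
      obtain ⟨W, hW, hxW, -⟩ := exists_isAffineOpen_mem_and_subset (x := x) (U := ⊤) trivial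
      refine ⟨⟨W, hW⟩, hxW, 1, one_mem _, ?_⟩
      rw [← pow_zero I, Scheme.IdealSheafData.ideal_pow, Pi.pow_apply, pow_zero, Ideal.one_eq_top, Ideal.span_singleton_one]
    · rw [← pow_zero I, Scheme.IdealSheafData.ideal_pow, Pi.pow_apply, pow_zero, Ideal.one_eq_top, map_one,
        Ideal.span_singleton_one]

/-- Negative twists up to one have no `H¹` near an exceptional curve with ample conormal. -/
theorem vanish {E Z : Scheme.{u}} {A : Type u} [CommRing A] [IsNoetherianRing A] (q : Z ⟶ Spec (CommRingCat.of A))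
    [IsProper q] (ι : E ⟶ Z) [IsClosedImmersion ι] (hE : Models.IsExcCurve ι)
    (hamp : CohB1.IsAmple (ClSub.idealMod ι.ker)) :
    (∀ m : ℕ, Subsingleton (Coh.HH Z (ClSub.idealMod (ι.ker ^ m)) 1)) ∧
      ∃ M : Z.Modules, PicF.cl M * PicF.cl (ClSub.idealMod ι.ker) = 1 ∧ Subsingleton (Coh.HH Z M 1) := by
  haveI : IsLocallyNoetherian Z := LocallyOfFiniteType.isLocallyNoetherian q
  haveI : CompactSpace Z := QuasiCompact.compactSpace_of_compactSpace q
  haveI : IsNoetherian Z := { __ := ‹IsLocallyNoetherian Z›, __ := ‹CompactSpace Z› }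
  letI : Z.Over (Spec (CommRingCat.of A)) := ⟨q⟩
  haveI : IsProper (Z ↘ Spec (CommRingCat.of A)) := ‹IsProper q›
  let I := ClSub.idealMod ι.ker
  have hI : PicF.IsInvertible I := hamp.1
  obtain ⟨D, hD, eD⟩ := H23.PicInv.exists_inverse hI
  have hDI' : PicF.cl I * PicF.cl D = 1 := (PicGrp.cl_eq_cl_iff _ _).2 eD
  have hDI : PicF.cl D * PicF.cl I = 1 := by rw [mul_comm]; exact hDI'
  obtain ⟨d₀, hd₀⟩ := AmpleVan.exists_vanishing (A := A) hamp (QCoh.isCoh_structureModule' (X := Z))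
  obtain ⟨-, k, hk, e, -⟩ := id hE
  have key : ∀ m, d₀ ≤ m → ∀ i, i ≤ m + 1 →
      Subsingleton (Coh.HH Z (CohB1.tensorMod (CohB1.tensorPow I m) (CohB1.tensorPow D i)) 1) := by
    intro m hm i hi
    refine S7339.result ι hE D ((PicGrp.cl_eq_cl_iff _ _).1 hDI) (CohB1.tensorPow I m)
      (InvX.isInvertible_tensorPow hI m) k e m ((PicGrp.cl_eq_cl_iff _ _).1 ?_) ?_ i hi
    · show PicF.pullCl (e.hom ≫ ι) (PicF.cl (CohB1.tensorPow I m)) = _
      rw [H23.PicMul.cl_tensorPow, pullCl_pow, PointBlowUp.pullCl_exc ι hE e, cl_twist_pow]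
    · obtain ⟨φ⟩ := H23.PicMul.cl_eq_iff.1 (show PicF.cl (CohB1.tensorMod (Coh.structureModule Z) (CohB1.tensorPow I m)) =
          PicF.cl (CohB1.tensorPow I m) by rw [H23.PicMul.cl_tensor, ← H23.PicMul.one_def, one_mul])
      exact QCoh.subsingleton_HH_of_iso φ 1 (hd₀ m hm 0)
  refine ⟨fun m => ?_, D, hDI, ?_⟩
  · obtain ⟨φ⟩ := H23.PicMul.cl_eq_iff.1 (show PicF.cl (CohB1.tensorMod (CohB1.tensorPow I (d₀ + m)) (CohB1.tensorPow D d₀)) =
        PicF.cl (ClSub.idealMod (ι.ker ^ m)) by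
      rw [H23.PicMul.cl_tensor, H23.PicMul.cl_tensorPow, H23.PicMul.cl_tensorPow, cl_idealMod_pow' _ hE.1,
        add_comm, pow_add, mul_assoc, ← mul_pow, hDI', one_pow, mul_one])
    exact QCoh.subsingleton_HH_of_iso φ 1 (key _ (Nat.le_add_right _ _) _ (by omega))
  · obtain ⟨φ⟩ := H23.PicMul.cl_eq_iff.1 (show PicF.cl (CohB1.tensorMod (CohB1.tensorPow I d₀) (CohB1.tensorPow D (d₀ + 1))) =
        PicF.cl D by
      rw [H23.PicMul.cl_tensor, H23.PicMul.cl_tensorPow, H23.PicMul.cl_tensorPow, pow_succ, ← mul_assoc, ← mul_pow, hDI',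
        one_pow, one_mul])
    exact QCoh.subsingleton_HH_of_iso φ 1 (key _ le_rfl _ le_rfl)

/-- A function of the base is in the ideal and generates it exactly on the locus of its section. -/
theorem exists_generators {E Z : Scheme.{u}} {A : Type u} [CommRing A] (q : Z ⟶ Spec (CommRingCat.of A))
    [IsProper q] (hq : Function.Bijective q.appTop) (ι : E ⟶ Z) [IsClosedImmersion ι] (hE : Models.IsExcCurve ι)
    (hv : Subsingleton (Coh.HH Z (ClSub.idealMod (ι.ker ^ 2)) 1)) :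
    ∃ (a b : A) (N : Z.Opens), Set.range ι ⊆ N ∧
      ι.ker.comap N.ι = ((centre (Ideal.span {a, b})).comap q).comap N.ι ∧
      (∃ e : E, ∀ W : Z.affineOpens, ι e ∈ W.1 → ι.ker.ideal W ≠ ((centre (Ideal.span {a})).comap q).ideal W) ∧
      (∃ e : E, ∀ W : Z.affineOpens, ι e ∈ W.1 → ι.ker.ideal W ≠ ((centre (Ideal.span {b})).comap q).ideal W) := by
  obtain ⟨hC, k, hk, e, ⟨he⟩⟩ := id hE
  let I := ClSub.idealMod ι.ker
  have hI : PicF.IsInvertible I := (S8914.result ι.ker).2 hC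
  have h1 : Subsingleton (Coh.HH Z (CohB1.tensorMod I I) 1) := by
    obtain ⟨φ⟩ := H23.PicMul.cl_eq_iff.1 (show PicF.cl (ClSub.idealMod (ι.ker ^ 2)) = PicF.cl (CohB1.tensorMod I I) by
      rw [H23.PicMul.cl_tensor, cl_idealMod_pow' _ hC, pow_two])
    exact QCoh.subsingleton_HH_of_iso φ 1 hv
  haveI := P1Split.isIntegral k
  letI := MvPolynomial.gradedAlgebra (σ := Fin (1 + 1)) (R := k)
  have hcov : (⨆ g : CohB1.polyGrading 1 k 1, Proj.basicOpen (CohB1.polyGrading 1 k) (g : MvPolynomial (Fin (1 + 1)) k)) = ⊤ := by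
    refine top_le_iff.1 ((P1Split.hcov k).ge.trans (iSup_le fun j => ?_))
    exact le_iSup_of_le ⟨MvPolynomial.X j.down, ProjPt.X_mem j.down⟩ le_rfl
  -- sections with prescribed loci
  have hsect : ∀ j : Fin (1 + 1), ∃ s : Γ(I, ⊤), ∀ x : CohB1.ProjSpace 1 k,
      (ι (e.hom x) ∈ AmpleX.locus s ↔ x ∈ Proj.basicOpen (CohB1.polyGrading 1 k) (MvPolynomial.X j)) := by
    intro j
    let g : CohB1.polyGrading 1 k 1 := ⟨MvPolynomial.X j, ProjPt.X_mem j⟩
    let t₀ : Γ(Twist.twistProjSpace 1 k 1, ⊤) := Twist.globalOf (CohB1.polyGrading 1 k) g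
    have ht₀ : AmpleX.locus t₀ = Proj.basicOpen (CohB1.polyGrading 1 k) (MvPolynomial.X j) := by
      have h := TwistCover.genLocus_globalOf hcov g
      rw [AmpleX.genLocus_eq_locus, InvX.one_ofSect] at h
      exact h
    have hcl : PicF.cl ((Scheme.Modules.pullback e.inv).obj (Twist.twistProjSpace 1 k 1)) =
        PicF.cl ((Scheme.Modules.pullback ι).obj I) := by
      show PicF.pullCl e.inv (PicF.cl (Twist.twistProjSpace 1 k 1)) = PicF.pullCl ι (PicF.cl I)
      rw [← PointBlowUp.pullCl_exc ι hE e, PicClLib.pullCl_comp e.inv (e.hom ≫ ι), e.inv_hom_id_assoc]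
    obtain ⟨t, ht⟩ := AmpleX.exists_locus_cl hcl (InvX.pullElt e.inv t₀)
    rw [AmpleX.locus_pullElt (PnCoh.Finite.isInvertible_twist (fun j : ULift.{u} (Fin (1 + 1)) => MvPolynomial.X j.down)
      (fun j => ProjPt.X_mem j.down) (P1Split.hcov k) 1)] at ht
    obtain ⟨s, hs⟩ := exists_locus_lift ι hI h1 t
    refine ⟨s, fun x => ?_⟩
    have : (e.hom x ∈ ι ⁻¹ᵁ AmpleX.locus s) ↔ e.inv (e.hom x) ∈ AmpleX.locus t₀ := by
      rw [hs, ht]; rfl
    refine this.trans ?_
    rw [← Scheme.Hom.comp_apply, e.hom_inv_id, ht₀]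
    rfl
  choose s hs using hsect
  -- the functions
  have hfun : ∀ j, ∃ a : A, strHom q ⊤ a = OmegaSh.idealSect ι.ker ⊤ (s j) := fun j => (bijective_strHom_top q hq).2 _
  choose a ha using hfun
  have hres : ∀ j (W : Z.Opens), strHom q W (a j) = OmegaSh.idealSect ι.ker W (AModX.res I (le_top : W ≤ ⊤) (s j)) := by
    intro j W
    refine Eq.trans ?_ (OmegaLib.idealSect_map ι.ker (le_top : W ≤ ⊤) (s j)).symm
    rw [← ha, res_strHom_top]
  have hmem : ∀ j (W : Z.affineOpens), strHom q W.1 (a j) ∈ ι.ker.ideal W := fun j W => by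
    rw [hres]; exact OmegaLib.idealSect_mem _ W _
  have hspan : ∀ j (W : Z.affineOpens), W.1 ≤ AmpleX.locus (s j) → ι.ker.ideal W = Ideal.span {strHom q W.1 (a j)} := by
    intro j W hW
    rw [hres]
    exact CurveAlgEqLib.span_idealSect_frame _ W (AmpleX.isFrame_res_of_le (s j) hW)
  have hone : ∀ c : A, ∀ W : Z.affineOpens, ((centre (Ideal.span {c})).comap q).ideal W = Ideal.span {strHom q W.1 c} := by
    intro c W
    rw [ideal_comap_centre, Ideal.map_span, Set.image_singleton]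
  refine ⟨a 0, a 1, AmpleX.locus (s 0) ⊔ AmpleX.locus (s 1), ?_, ?_, ?_, ?_⟩
  · rintro _ ⟨x, rfl⟩
    have hx : x = e.hom (e.inv x) := by rw [← Scheme.Hom.comp_apply, e.inv_hom_id]; rfl
    obtain ⟨⟨j⟩, hj⟩ := Opens.mem_iSup.1 ((P1Split.hcov k).ge (trivial : e.inv x ∈ (⊤ : (CohB1.ProjSpace 1 k).Opens)))
    have := (hs j (e.inv x)).2 hj
    rw [← hx] at this
    fin_cases j
    · exact Or.inl this
    · exact Or.inr this
  · refine FittX.eq_of_cover fun z => ?_
    obtain ⟨W, hW, hzW, hle⟩ : ∃ (W : Z.Opens), IsAffineOpen W ∧ z.1 ∈ W ∧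
        (W ≤ AmpleX.locus (s 0) ∨ W ≤ AmpleX.locus (s 1)) := by
      rcases Opens.mem_sup.1 z.2 with h | h
      · obtain ⟨W, hW, hzW, hle⟩ := exists_isAffineOpen_mem_and_subset h
        exact ⟨W, hW, hzW, Or.inl hle⟩
      · obtain ⟨W, hW, hzW, hle⟩ := exists_isAffineOpen_mem_and_subset h
        exact ⟨W, hW, hzW, Or.inr hle⟩
    have hWN : W ≤ AmpleX.locus (s 0) ⊔ AmpleX.locus (s 1) := hle.elim (·.trans le_sup_left) (·.trans le_sup_right)
    let N := AmpleX.locus (s 0) ⊔ AmpleX.locus (s 1)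
    have himg : N.ι ''ᵁ (N.ι ⁻¹ᵁ W) = W := by
      rw [Scheme.Hom.image_preimage_eq_opensRange_inf, Scheme.Opens.opensRange_ι, inf_eq_right]
      exact hWN
    refine ⟨⟨N.ι ⁻¹ᵁ W, hW.preimage_of_isOpenImmersion N.ι (by rw [Scheme.Opens.opensRange_ι]; exact hWN)⟩, hzW, ?_⟩
    rw [Scheme.IdealSheafData.ideal_comap_of_isOpenImmersion, Scheme.IdealSheafData.ideal_comap_of_isOpenImmersion]
    congr 1
    have key : ∀ W' : Z.affineOpens, (W'.1 ≤ AmpleX.locus (s 0) ∨ W'.1 ≤ AmpleX.locus (s 1)) →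
        ι.ker.ideal W' = ((centre (Ideal.span {a 0, a 1})).comap q).ideal W' := by
      intro W' hle'
      rw [ideal_comap_centre, Ideal.map_span, Set.image_pair]
      refine le_antisymm ?_ (Ideal.span_le.2 ?_)
      · rcases hle' with h | h
        · rw [hspan 0 W' h]; exact Ideal.span_mono (Set.singleton_subset_iff.2 (Set.mem_insert _ _))
        · rw [hspan 1 W' h]; exact Ideal.span_mono (Set.singleton_subset_iff.2 (Set.mem_insert_of_mem _ rfl))
      · rintro _ (rfl | rfl)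
        · exact hmem 0 W'
        · exact hmem 1 W'
    refine key _ ?_
    show N.ι ''ᵁ (N.ι ⁻¹ᵁ W) ≤ _ ∨ N.ι ''ᵁ (N.ι ⁻¹ᵁ W) ≤ _
    rw [himg]
    exact hle
  all_goals
    have hnot : ∀ j : Fin (1 + 1), ∃ x : E, ∀ W : Z.affineOpens, ι x ∈ W.1 →
        ι.ker.ideal W ≠ ((centre (Ideal.span {a j})).comap q).ideal W := by
      intro j
      obtain ⟨x, hx⟩ : ∃ x : CohB1.ProjSpace 1 k, x ∉ Proj.basicOpen (CohB1.polyGrading 1 k) (MvPolynomial.X j) := by
        by_contra hall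
        push Not at hall
        refine SmoothMinimal.not_triv_twist_one k (H23.TrivBasic.triv_of_frame
          (e := (show Γ(Twist.twistProjSpace 1 k 1, ⊤) from
            Twist.globalOf (CohB1.polyGrading 1 k) (⟨MvPolynomial.X j, ProjPt.X_mem j⟩ : CohB1.polyGrading 1 k 1))) ?_)
        have h := TwistX.isFrame_res_globalOf (ProjPt.X_mem (R := k) j) (U := (⊤ : (CohB1.ProjSpace 1 k).Opens))
          fun y => hall y.1
        have h' : InvX.IsFrame (AModX.res (Twist.twistProjSpace 1 k 1) (le_top : (⊤ : (CohB1.ProjSpace 1 k).Opens) ≤ ⊤)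
            (show Γ(Twist.twistProjSpace 1 k 1, ⊤) from
              Twist.globalOf (CohB1.polyGrading 1 k) (⟨MvPolynomial.X j, ProjPt.X_mem j⟩ : CohB1.polyGrading 1 k 1))) := h
        rw [AModX.res_self] at h'
        exact h'
      refine ⟨e.hom x, fun W hxW heq => hx ((hs j x).1 ?_)⟩
      obtain ⟨U, hxU, ε, hε⟩ := InvX.exists_frame hI (ι (e.hom x))
      obtain ⟨V, hV, hxV, hVle⟩ := exists_isAffineOpen_mem_and_subset (U := U ⊓ W.1) (x := ι (e.hom x)) ⟨hxU, hxW⟩
      have hVW : V ≤ W.1 := hVle.trans inf_le_right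
      have hn : ι.ker.ideal ⟨V, hV⟩ = Ideal.span {OmegaSh.idealSect ι.ker V (AModX.res I (le_top : V ≤ ⊤) (s j))} := by
        rw [← ι.ker.map_ideal (U := ⟨V, hV⟩) (V := W) hVW, heq,
          ((centre (Ideal.span {a j})).comap q).map_ideal (U := ⟨V, hV⟩) (V := W) hVW, hone, hres]
      exact AmpleX.le_locus (s j) le_top
        (CurveAlgEqLib.isFrame_of_span ι.ker ⟨V, hV⟩ (hε.res (hVle.trans inf_le_left)) hn) hxV
  · exact hnot 0
  · exact hnot 1

end Groth.Agent.Castelnuovo
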