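import Groth.Agent.TwoOpen.Basic
import Groth.Agent.QCoh.HHExact

/-! A cocycle on two affine opens splits when `H¹` vanishes. -/

noncomputable section

set_option linter.style.haveILetI false
set_option linter.unusedSectionVars false
set_option backward.isDefEq.respectTransparency false
set_option backward.isDefEq.respectTransparency.types false

universe u

open CategoryTheory CategoryTheory.Limits AlgebraicGeometry TopologicalSpace Opposite

namespace Groth.Agent.Castelnuovo

open Groth.Agent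

/-- If `H¹(M) = 0`, every section on `U ⊓ V` is a sum of a section on `U` and a section on `V`. -/
theorem exists_split {X : Scheme.{u}} [X.IsSeparated] {U V : X.Opens} (hU : IsAffineOpen U)
    (hV : IsAffineOpen V) (hcov : U ⊔ V = ⊤) {M : X.Modules} (hM : Coh.IsQCoh M)
    (hinj : ∀ W : X.Opens, Function.Injective (M.presheaf.map (homOfLE (inf_le_right : U ⊓ W ≤ W)).op))
    (h1 : Subsingleton (Coh.HH X M 1)) (w : Γ(M, U ⊓ V)) :
    ∃ (a : Γ(M, U)) (b : Γ(M, V)),
      w = M.presheaf.map (homOfLE (inf_le_left : U ⊓ V ≤ U)).op a +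
        M.presheaf.map (homOfLE (inf_le_right : U ⊓ V ≤ V)).op b := by
  haveI : IsAffine U.toScheme := hU
  haveI : IsAffineHom (U.ι ≫ terminal.from X) := isAffineHom_of_isAffine _
  haveI : IsAffineHom U.ι := IsAffineHom.of_comp U.ι (terminal.from X)
  let J : X.Modules := (Scheme.Modules.pushforward U.ι).obj (M.restrict U.ι)
  let η : M ⟶ J := (Scheme.Modules.restrictAdjunction U.ι).unit.app M
  have himg : ∀ W : X.Opens, U.ι ''ᵁ (U.ι ⁻¹ᵁ W) = U ⊓ W := fun W => by
    rw [Scheme.Hom.image_preimage_eq_opensRange_inf, Scheme.Opens.opensRange_ι]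
  have hηapp : ∀ (W : X.Opens) (s : Γ(M, W)),
      (η.app W s : Γ(M, U.ι ''ᵁ (U.ι ⁻¹ᵁ W))) = M.presheaf.map (homOfLE (U.ι.image_preimage_le W)).op s :=
    fun W s => congr(($(Scheme.Modules.restrictAdjunction_unit_app_app U.ι M W)) s)
  have hJ : Coh.IsQCoh J := QCoh.isQCoh_pushforward U.ι (QCoh.isQCoh_restrict U.ι hM)
  have hres : ∀ {W W' W'' : X.Opens} (h : W' ≤ W) (h' : W'' ≤ W') (s : Γ(M, W)),
      M.presheaf.map (homOfLE h').op (M.presheaf.map (homOfLE h).op s) = M.presheaf.map (homOfLE (h'.trans h)).op s :=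
    fun h h' s => (congr(($(M.presheaf.map_comp (homOfLE h).op (homOfLE h').op)) s)).symm
  haveI : Mono η := by
    refine Preadditive.mono_of_cancel_zero _ fun {P} g hg => Scheme.Modules.hom_ext _ _ fun W => ?_
    ext p
    refine hinj W ?_
    show _ = M.presheaf.map (homOfLE (inf_le_right : U ⊓ W ≤ W)).op 0
    rw [map_zero]
    have h := congr(($hg).app W p)
    have h' : M.presheaf.map (homOfLE (U.ι.image_preimage_le W)).op (g.app W p) = 0 := (hηapp W _).symm.trans h
    rw [← hres (U.ι.image_preimage_le W) (himg W).ge, h', map_zero]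
  let Q := cokernel η
  have hQ : Coh.IsQCoh Q := QCoh.isQCoh_cokernel hM hJ η
  have hS := CurveSlope.shortExact_cokernel_of_mono η
  have hQzero : ∀ W : X.Opens, IsAffineOpen W → W ≤ U → Subsingleton Γ(Q, W) := fun W hW hWU =>
    subsingleton_of_forall_eq 0 fun c => by
      obtain ⟨t, rfl⟩ := QCoh.app_surjective_of_epi hJ hQ (cokernel.π η) hW c
      obtain ⟨r, rfl⟩ := (AffStrat.bijective_unit_app M U hWU).2 t
      exact congrArg (fun q : M ⟶ Q => q.app W r) (cokernel.condition η)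
  -- the section of the quotient
  let wJ : Γ(J, V) := show Γ(M, U.ι ''ᵁ (U.ι ⁻¹ᵁ V)) from M.presheaf.map (homOfLE (himg V).le).op w
  let sec : ∀ i : ULift.{u} Bool, Γ(Q, if i.down then U else V) := fun i =>
    match i with
    | ⟨true⟩ => (0 : Γ(Q, U))
    | ⟨false⟩ => (cokernel.π η).app V wJ
  haveI hsub : Subsingleton Γ(Q, U ⊓ V) := hQzero _ (IsAffineOpen.inf hU hV) inf_le_left
  haveI hsub' : Subsingleton Γ(Q, V ⊓ U) := hQzero _ (IsAffineOpen.inf hV hU) inf_le_right
  obtain ⟨q, hq, -⟩ := TopCat.Sheaf.existsUnique_gluing' ⟨Q.presheaf, Q.isSheaf⟩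
    (fun i : ULift.{u} Bool => if i.down then U else V) ⊤ (fun i => homOfLE le_top) (fun x _ => by
      have hx : x ∈ U ⊔ V := hcov.ge trivial
      rcases (Opens.mem_sup.1 hx) with h | h
      · exact Opens.mem_iSup.2 ⟨⟨true⟩, h⟩
      · exact Opens.mem_iSup.2 ⟨⟨false⟩, h⟩) sec (fun i j => by
      rcases i with ⟨_ | _⟩ <;> rcases j with ⟨_ | _⟩
      · rfl
      · exact Subsingleton.elim (α := Γ(Q, V ⊓ U)) _ _
      · exact Subsingleton.elim (α := Γ(Q, U ⊓ V)) _ _
      · rfl)
  obtain ⟨t, ht⟩ := QCoh.app_top_surjective_of_HH_one (S := ShortComplex.mk η (cokernel.π η) (cokernel.condition η))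
    hS h1 q
  have hqV : Q.presheaf.map (homOfLE (le_top : V ≤ ⊤)).op q = (cokernel.π η).app V wJ := hq ⟨false⟩
  have hker : (cokernel.π η).app V (wJ - J.presheaf.map (homOfLE (le_top : V ≤ ⊤)).op t) = 0 := by
    rw [map_sub, QCoh.map_app_comm (cokernel.π η), ← hqV, sub_eq_zero]
    exact (congrArg _ ht).symm
  obtain ⟨b, hb⟩ := (QCoh.mem_range_iff_cokernel η V _).1 hker
  have htopU : U ≤ U.ι ''ᵁ (U.ι ⁻¹ᵁ ⊤) := by rw [himg]; exact le_inf le_rfl le_top
  refine ⟨M.presheaf.map (homOfLE htopU).op t, b, ?_⟩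
  have h2 := congrArg (fun z : Γ(J, V) => M.presheaf.map (homOfLE (himg V).ge).op (show Γ(M, U.ι ''ᵁ (U.ι ⁻¹ᵁ V)) from z)) hb
  simp only at h2
  erw [hηapp, hres] at h2
  have h3 : M.presheaf.map (homOfLE (himg V).ge).op (show Γ(M, U.ι ''ᵁ (U.ι ⁻¹ᵁ V)) from wJ - J.presheaf.map (homOfLE (le_top : V ≤ ⊤)).op t) =
      w - M.presheaf.map (homOfLE ((himg V).ge.trans (U.ι.image_mono (U.ι.preimage_mono (le_top : V ≤ ⊤))))).op t := by
    refine (map_sub (M.presheaf.map (homOfLE (himg V).ge).op).hom _ _).trans ?_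
    congr 1
    · refine (hres _ _ w).trans ?_
      exact ConcreteCategory.congr_hom (M.presheaf.map_id _) w
    · exact hres _ _ _
  rw [h3] at h2
  rw [hres, eq_comm, ← eq_sub_iff_add_eq']
  exact h2

end Groth.Agent.Castelnuovo
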