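import Groth.Agent.Castelnuovo.Local
import Groth.Agent.RegNear.Basic
import Groth.Agent.CodimOneExt.Basic
import Groth.Agent.H23.FinCondSch
import Groth.Agent.CurveAlgEqLib.IdealPull
import Groth.Agent.AmpleVan.Tw
import Groth.Agent.AmpleVan.Pull

/-!
# An integral neighbourhood of an exceptional curve, and windows over affine opens of the target
-/

noncomputable section

set_option linter.style.haveILetI false
set_option linter.unusedSectionVars false
set_option autoImplicit false
set_option backward.isDefEq.respectTransparency false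
set_option backward.isDefEq.respectTransparency.types false
set_option maxHeartbeats 1000000

universe u

open CategoryTheory CategoryTheory.Limits AlgebraicGeometry TopologicalSpace Opposite IsLocalRing

namespace Groth.Agent.Castelnuovo

open Groth.Agent
open scoped Groth.Agent.H23.PicMul

/-- A Noetherian local ring is a domain when cutting by a non-zero-divisor leaves a domain. -/
theorem isDomain_of_prime_span {R : Type u} [CommRing R] [IsNoetherianRing R] [IsLocalRing R] {t : R}
    (ht : t ∈ nonZeroDivisors R) (hp : (Ideal.span {t}).IsPrime) : IsDomain R := by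
  obtain ⟨p, hpmin, hple⟩ := Ideal.exists_minimalPrimes_le (show (⊥ : Ideal R) ≤ Ideal.span {t} from bot_le)
  haveI := hpmin.isPrime
  have htp : t ∉ p := fun h =>
    Set.disjoint_left.1 (Ideal.disjoint_nonZeroDivisors_of_mem_minimalPrimes (show p ∈ minimalPrimes R from hpmin)) h ht
  have hle : p ≤ Ideal.span {t} • p := fun x hx => by
    obtain ⟨c, rfl⟩ := Ideal.mem_span_singleton'.1 (hple hx)
    have hc : c ∈ p := (‹p.IsPrime›.mem_or_mem hx).resolve_right htp
    rw [mul_comm, ← smul_eq_mul]
    exact Submodule.smul_mem_smul (Ideal.mem_span_singleton_self t) hc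
  have hbot : p = ⊥ := Submodule.eq_bot_of_le_smul_of_le_jacobson_bot _ p (IsNoetherian.noetherian p) hle
    ((le_maximalIdeal hp.ne_top).trans (maximalIdeal_le_jacobson _))
  have : (⊥ : Ideal R).IsPrime := hbot ▸ hpmin.isPrime
  exact (Ideal.Quotient.isDomain_iff_prime _).2 this |> fun h =>
    (RingEquiv.quotientBot R).symm.toMulEquiv.isDomain

/-- The local rings at points of an exceptional curve are domains. -/
theorem isDomain_stalk_of_exc {E X : Scheme.{u}} [IsLocallyNoetherian X] (ι : E ⟶ X) [IsClosedImmersion ι]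
    [IsIntegral E] (hC : BlowUp.IsEffCartierIdeal ι.ker) (e : E) : IsDomain (X.presheaf.stalk (ι e)) := by
  obtain ⟨U, heU, t, ht, hU⟩ := hC (ι e)
  have hker : RingHom.ker (ι.stalkMap e).hom = Ideal.span {X.presheaf.germ U.1 (ι e) heU t} := by
    rw [RegNear.ker_stalkMap ι e U.2 heU, ← FComplLib.ideal_ker, hU, Ideal.map_span, Set.image_singleton]
  refine isDomain_of_prime_span (MeroX.germ_mem_nonZeroDivisors U.2 ht (ι e) heU) ?_
  rw [← hker]
  exact RingHom.ker_isPrime _

/-- A Noetherian scheme has an integral open neighbourhood of an exceptional curve. -/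
theorem exists_integral_window {E X : Scheme.{u}} [IsNoetherian X] (ι : E ⟶ X) [IsClosedImmersion ι]
    [IsIntegral E] (hC : BlowUp.IsEffCartierIdeal ι.ker) :
    ∃ W : X.Opens, Set.range ι ⊆ W ∧ IsIntegral W.toScheme := by
  have hloc : ∀ e : E, ∃ V : X.Opens, ι e ∈ V ∧ IsIntegral V.toScheme := fun e => by
    haveI := isDomain_stalk_of_exc ι hC e
    exact H23.FinCondSch.exists_integral_nhd (ι e)
  choose V hV hint using hloc
  let W : X.Opens := ⨆ e, V e
  have hW : ∀ e, V e ≤ W := le_iSup V
  let ξ := ι (genericPoint E)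
  have hξ : ∀ e, ξ ∈ V e := fun e =>
    ((genericPoint_specializes e).map ι.continuous).mem_open (V e).isOpen (hV e)
  refine ⟨W, fun x hx => by obtain ⟨e, rfl⟩ := hx; exact hW e (hV e), ?_⟩
  haveI : Nonempty W.toScheme := ⟨⟨ξ, hW (genericPoint E) (hξ _)⟩⟩
  haveI : IsReduced W.toScheme := by
    haveI : ∀ x : W.toScheme, _root_.IsReduced (W.toScheme.presheaf.stalk x) := by
      rintro ⟨x, hx⟩
      obtain ⟨e, he⟩ := Opens.mem_iSup.1 hx
      haveI := hint e
      haveI : _root_.IsReduced (X.presheaf.stalk x) :=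
        isReduced_of_injective ((V e).ι.stalkMap ⟨x, he⟩).hom
          (ConcreteCategory.bijective_of_isIso ((V e).ι.stalkMap ⟨x, he⟩)).1
      haveI : _root_.IsReduced (X.presheaf.stalk (W.ι ⟨x, hx⟩)) := ‹_root_.IsReduced (X.presheaf.stalk x)›
      exact isReduced_of_injective (inv (W.ι.stalkMap ⟨x, hx⟩)).hom
        (ConcreteCategory.bijective_of_isIso (inv (W.ι.stalkMap ⟨x, hx⟩))).1
    exact isReduced_of_isReduced_stalk _
  haveI : IrreducibleSpace W.toScheme := by
    have hirr : IsIrreducible (W : Set X) := by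
      refine ⟨⟨ξ, hW (genericPoint E) (hξ _)⟩, fun u v hu hv ⟨x, hxW, hxu⟩ ⟨y, hyW, hyv⟩ => ?_⟩
      obtain ⟨e, he⟩ := Opens.mem_iSup.1 hxW
      obtain ⟨e', he'⟩ := Opens.mem_iSup.1 hyW
      haveI := hint e
      haveI := hint e'
      have hirr : ∀ i : E, IsIntegral (V i).toScheme → IsPreirreducible (V i : Set X) := fun i h => by
        have h2 := IrreducibleSpace.isIrreducible_univ (V i).toScheme
        have h3 := h2.image (V i).ι (V i).ι.continuous.continuousOn
        rw [Set.image_univ, Scheme.Opens.range_ι] at h3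
        exact h3.2
      obtain ⟨z, hzV, hzu, hzV'⟩ := hirr e (hint e) u (V e') hu (V e').isOpen ⟨x, he, hxu⟩ ⟨ξ, hξ e, hξ e'⟩
      obtain ⟨w, hwV, hwu, hwv⟩ := hirr e' (hint e') u v hu hv ⟨z, hzV', hzu⟩ ⟨y, he', hyv⟩
      exact ⟨w, hW e' hwV, hwu, hwv⟩
    exact (Subtype.irreducibleSpace hirr : IrreducibleSpace (W : Set X))
  exact isIntegral_of_irreducibleSpace_of_isReduced _

/-- A closed immersion landing in an open is the base change of itself. -/
theorem isPullback_lift {E X : Scheme.{u}} (ι : E ⟶ X) (Z : X.Opens) (ιZ : E ⟶ Z.toScheme)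
    (h : ιZ ≫ Z.ι = ι) : IsPullback ιZ (𝟙 E) Z.ι ι := by
  refine ⟨⟨by rw [h, Category.id_comp]⟩, ⟨PullbackCone.IsLimit.mk _ (fun s => s.snd) (fun s => ?_) (fun s => ?_) (fun s m _ hm => ?_)⟩⟩
  · rw [← cancel_mono Z.ι, Category.assoc, h, s.condition]
  · exact Category.comp_id _
  · exact (Category.comp_id m).symm.trans hm

end Groth.Agent.Castelnuovo
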